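import Mathlib.RingTheory.Flat.FaithfullyFlat.Basic
import Mathlib.RingTheory.TensorProduct.Maps
import Mathlib.LinearAlgebra.Matrix.Basis
import Mathlib.Data.Matrix.Mul

/-!
Faithfully flat descent for systems of linear equations given by matrices over `R ⊗ R'`.
-/

universe u v

open TensorProduct

namespace Groth.Agent.Lib.WittDesc.Classical

variable {R A : Type u} [CommRing R] [CommRing A] [Algebra R A]

section coords

variable {N : Type u} [AddCommGroup N] [Module R N] {m κ : Type v} [Fintype m] [Fintype κ]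

/-- Entries of an element of `A ⊗ Mat(N)`. -/
noncomputable def ent : A ⊗[R] (m → κ → N) →ₗ[R] m → κ → A ⊗[R] N :=
  LinearMap.pi fun i => LinearMap.pi fun j =>
    ((LinearMap.proj j).comp (LinearMap.proj i : (m → κ → N) →ₗ[R] κ → N)).lTensor A

theorem ent_tmul (a : A) (X : m → κ → N) (i : m) (j : κ) : ent (a ⊗ₜ X) i j = a ⊗ₜ[R] X i j := rfl

/-- An element of `A ⊗ Mat(N)` with given entries. -/
noncomputable def unent [DecidableEq m] [DecidableEq κ] :
    (m → κ → A ⊗[R] N) →ₗ[R] A ⊗[R] (m → κ → N) :=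
  ∑ i, ∑ j, (((LinearMap.single R (fun _ : m => κ → N) i).comp
    (LinearMap.single R (fun _ : κ => N) j)).lTensor A).comp
      ((LinearMap.proj (R := R) (φ := fun _ : κ => A ⊗[R] N) j).comp
        (LinearMap.proj (R := R) (φ := fun _ : m => κ → A ⊗[R] N) i))

theorem unent_ent [DecidableEq m] [DecidableEq κ] (t : A ⊗[R] (m → κ → N)) : unent (ent t) = t := by
  induction t using TensorProduct.induction_on with
  | zero => simp
  | add x y hx hy => rw [map_add, map_add, hx, hy]
  | tmul a X =>
    simp only [unent, LinearMap.sum_apply, LinearMap.comp_apply, LinearMap.proj_apply, ent_tmul,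
      LinearMap.lTensor_tmul, ← tmul_sum]
    refine congrArg (fun Y : m → κ → N => a ⊗ₜ[R] Y) ?_
    funext i j
    simp [Finset.sum_apply, LinearMap.single_apply, Pi.single_apply, ite_apply]

theorem ent_injective : Function.Injective (ent (A := A) (R := R) (N := N) (m := m) (κ := κ)) := by
  classical exact Function.LeftInverse.injective unent_ent

theorem ent_surjective : Function.Surjective (ent (A := A) (R := R) (N := N) (m := m) (κ := κ)) := by
  classical
  refine fun Y => ⟨unent Y, ?_⟩
  funext i j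
  have h : ∀ (i' : m) (j' : κ) (z : A ⊗[R] N),
      ent ((((LinearMap.single R (fun _ : m => κ → N) i').comp
        (LinearMap.single R (fun _ : κ => N) j')).lTensor A) z) i j =
        if i = i' ∧ j = j' then z else 0 := by
    intro i' j' z
    induction z using TensorProduct.induction_on with
    | zero => simp
    | add x y hx hy =>
      rw [map_add, map_add, Pi.add_apply, Pi.add_apply, hx, hy]
      split <;> simp
    | tmul a x =>
      rw [LinearMap.lTensor_tmul, ent_tmul]
      by_cases hi : i = i' <;> by_cases hj : j = j' <;>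
        simp [hi, hj, LinearMap.single_apply]
  simp only [unent, LinearMap.sum_apply, map_sum, Finset.sum_apply, LinearMap.comp_apply, h,
    LinearMap.proj_apply, ite_and]
  simp

end coords

/-- An element which lies in the range after a faithfully flat extension lies in the range. -/
theorem mem_range_of_lTensor [Module.FaithfullyFlat R A] {M N : Type u} [AddCommGroup M] [Module R M]
    [AddCommGroup N] [Module R N] (f : M →ₗ[R] N) (x : N)
    (t : A ⊗[R] M) (ht : f.lTensor A t = (1 : A) ⊗ₜ[R] x) : ∃ y, f y = x := by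
  suffices x ∈ LinearMap.range f from this
  rw [← Submodule.Quotient.mk_eq_zero]
  refine (Module.FaithfullyFlat.one_tmul_eq_zero_iff R _ (A := A) _).1 ?_
  have h' := congrArg (LinearMap.lTensor A (LinearMap.range f).mkQ) ht
  rw [← LinearMap.lTensor_comp_apply, LinearMap.range_mkQ_comp, LinearMap.lTensor_zero,
    LinearMap.zero_apply, LinearMap.lTensor_tmul] at h'
  exact h'.symm

/-- A flat extension turns kernels into kernels. -/
theorem exists_lTensor_ker [Module.Flat R A] {M N : Type u} [AddCommGroup M] [Module R M]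
    [AddCommGroup N] [Module R N] (f : M →ₗ[R] N)
    (t : A ⊗[R] M) (ht : f.lTensor A t = 0) :
    ∃ s : A ⊗[R] LinearMap.ker f, (LinearMap.ker f).subtype.lTensor A s = t :=
  (Module.Flat.lTensor_exact A f.exact_subtype_ker_map t).1 ht

/-- The left inclusion into `A ⊗ A`. -/
abbrev ι₁ : A →ₐ[R] A ⊗[R] A := Algebra.TensorProduct.includeLeft
/-- The right inclusion into `A ⊗ A`. -/
abbrev ι₂ : A →ₐ[R] A ⊗[R] A := Algebra.TensorProduct.includeRight
/-- The inclusion of the factors `(0, 1)`. -/
noncomputable abbrev ι₀₁ : A ⊗[R] A →ₐ[R] A ⊗[R] (A ⊗[R] A) :=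
  Algebra.TensorProduct.map (AlgHom.id R A) ι₁
/-- The inclusion of the factors `(0, 2)`. -/
noncomputable abbrev ι₀₂ : A ⊗[R] A →ₐ[R] A ⊗[R] (A ⊗[R] A) :=
  Algebra.TensorProduct.map (AlgHom.id R A) ι₂
/-- The inclusion of the factors `(1, 2)`. -/
abbrev ι₁₂ : A ⊗[R] A →ₐ[R] A ⊗[R] (A ⊗[R] A) := Algebra.TensorProduct.includeRight

variable {m κ : Type} [Fintype m] [Fintype κ]

/-- The coboundary `z ↦ G·(z₁) − z₂`. -/
noncomputable def Φ (G : Matrix m m (A ⊗[R] A)) :
    (m → κ → A) →ₗ[R] (m → κ → A ⊗[R] A) where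
  toFun z := G * (Matrix.of z).map ι₁ - (Matrix.of z).map ι₂
  map_add' x y := by
    show G * (Matrix.of (x + y)).map ι₁ - (Matrix.of (x + y)).map ι₂ =
      (G * (Matrix.of x).map ι₁ - (Matrix.of x).map ι₂ : Matrix m κ (A ⊗[R] A)) +
      (G * (Matrix.of y).map ι₁ - (Matrix.of y).map ι₂ : Matrix m κ (A ⊗[R] A))
    rw [show Matrix.of (x + y) = Matrix.of x + Matrix.of y from rfl, Matrix.map_add _ (map_add _),
      Matrix.map_add _ (map_add _), Matrix.mul_add]
    abel
  map_smul' r x := by
    show G * (Matrix.of (r • x)).map ι₁ - (Matrix.of (r • x)).map ι₂ =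
      r • (G * (Matrix.of x).map ι₁ - (Matrix.of x).map ι₂ : Matrix m κ (A ⊗[R] A))
    rw [show Matrix.of (r • x) = r • Matrix.of x from rfl,
      Matrix.map_smul _ r (fun a => map_smul ι₁ r a),
      Matrix.map_smul _ r (fun a => map_smul ι₂ r a), Matrix.mul_smul, smul_sub]

theorem Φ_apply (G : Matrix m m (A ⊗[R] A)) (z : m → κ → A) :
    Matrix.of (Φ G z) = G * (Matrix.of z).map ι₁ - (Matrix.of z).map ι₂ := rfl

theorem ent_lTensor_Φ (G : Matrix m m (A ⊗[R] A)) (t : A ⊗[R] (m → κ → A)) :
    Matrix.of (ent ((Φ G).lTensor A t)) =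
      G.map ι₁₂ * (Matrix.of (ent t)).map ι₀₁ - (Matrix.of (ent t)).map ι₀₂ := by
  induction t using TensorProduct.induction_on with
  | zero => simp
  | add x y hx hy =>
    simp only [map_add, ← Matrix.of_add_of, Matrix.map_add _ (map_add _), Matrix.mul_add, hx, hy]
    abel
  | tmul a z =>
    ext i j
    simp only [LinearMap.lTensor_tmul, Matrix.of_apply, ent_tmul, Matrix.sub_apply,
      Matrix.mul_apply, Matrix.map_apply]
    rw [show Φ G z i j = (G * (Matrix.of z).map ι₁ - (Matrix.of z).map ι₂ : Matrix m κ (A ⊗[R] A)) i j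
      from rfl,
      Matrix.sub_apply, Matrix.mul_apply, tmul_sub, tmul_sum]
    simp [Matrix.map_apply, Algebra.TensorProduct.tmul_mul_tmul]

variable [Module.FaithfullyFlat R A] {G : Matrix m m (A ⊗[R] A)}
  (hcoc : G.map ι₁₂ * G.map ι₀₁ = G.map ι₀₂)

/-- Every cocycle is a coboundary. -/
theorem exists_coboundary (d : Matrix m κ (A ⊗[R] A))
    (hd : G.map ι₁₂ * d.map ι₀₁ + d.map ι₁₂ = d.map ι₀₂) :
    ∃ z : Matrix m κ A, G * z.map ι₁ - z.map ι₂ = -d := by
  obtain ⟨t, ht⟩ := ent_surjective (A := A) (R := R) (N := A) (fun i j => d i j)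
  obtain ⟨z, hz⟩ : ∃ z, Φ G z = fun i j => (-d) i j := by
    refine mem_range_of_lTensor (A := A) (Φ G) _ t (ent_injective ?_)
    apply Matrix.of.injective
    rw [ent_lTensor_Φ, ht]
    show G.map ι₁₂ * d.map ι₀₁ - d.map ι₀₂ = (-d).map ι₁₂
    rw [← hd]
    ext i j
    simp [tmul_neg]
  exact ⟨Matrix.of z, (Φ_apply G z).symm.trans (congrArg Matrix.of hz)⟩

include hcoc in
/-- A matrix fixed by the descent datum is a combination of descended ones. -/
theorem exists_sections {B : Matrix m κ A} {P : Matrix m m A}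
    (hPB : P * B = B) (μG : G.map (Algebra.TensorProduct.lmul' R) = P) :
    ∃ (q : ℕ) (s : Fin q → A) (Γ : Fin q → Matrix m κ A),
      (∀ k, G * (Γ k).map ι₁ = (Γ k).map ι₂) ∧ ∑ k, s k • Γ k = B := by
  classical
  obtain ⟨t, ht⟩ := ent_surjective (A := A) (R := R) (N := A)
    (fun i j => (G * B.map ι₁ : Matrix m κ (A ⊗[R] A)) i j)
  obtain ⟨s, hs⟩ := exists_lTensor_ker (A := A) (Φ G) t (ent_injective (by
    apply Matrix.of.injective
    rw [ent_lTensor_Φ, ht, map_zero]
    show (G.map ι₁₂ * (G * B.map ι₁).map ι₀₁ - (G * B.map ι₁).map ι₀₂ : Matrix m κ (A ⊗[R] (A ⊗[R] A))) = 0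
    rw [Matrix.map_mul, Matrix.map_mul, ← Matrix.mul_assoc, hcoc, sub_eq_zero, Matrix.map_map,
      Matrix.map_map]
    congr 1))
  obtain ⟨q, c, Γ, rfl⟩ := TensorProduct.exists_sum_tmul_eq s
  refine ⟨q, c, fun k => Matrix.of (Γ k).1, fun k => sub_eq_zero.1 ?_, ?_⟩
  · rw [← Φ_apply, (Γ k).2]; rfl
  · ext i j
    have h := congrArg (fun z => Algebra.TensorProduct.lmul' R (S := A) (ent z i j)) hs
    rw [ht] at h
    simp only [map_sum, LinearMap.lTensor_tmul, Finset.sum_apply, ent_tmul,
      Algebra.TensorProduct.lmul'_apply_tmul, Submodule.coe_subtype] at h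
    rw [Matrix.sum_apply]
    simp only [Matrix.smul_apply, Matrix.of_apply, smul_eq_mul]
    rw [h]
    show (Algebra.TensorProduct.lmul' R (S := A)).toRingHom ((G * B.map ι₁ : Matrix m κ (A ⊗[R] A)) i j) = B i j
    rw [RingHom.map_matrix_mul]
    conv_rhs => rw [← hPB, ← μG]
    simp [Matrix.mul_apply]

/-- Solvability of `U * C * L = P` descends. -/
theorem exists_descended_middle {ι : Type} [Fintype ι] {ι' : Type} [Fintype ι']
    {P : Matrix m m A} (U : Matrix m ι A) (L : Matrix ι' m A) (C' : Matrix ι ι' A)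
    (h : U.map (ι₂ (R := R)) * C'.map (ι₁ (R := R)) * L.map (ι₂ (R := R)) = P.map (ι₂ (R := R))) :
    ∃ C : Matrix ι ι' R, U * C.map (algebraMap R A) * L = P := by
  let Ψ : (ι → ι' → R) →ₗ[R] (m → m → A) :=
    { toFun := fun C => U * (Matrix.of C).map (algebraMap R A) * L
      map_add' := fun x y => by
        show U * (Matrix.of (x + y)).map (algebraMap R A) * L =
          (U * (Matrix.of x).map (algebraMap R A) * L : Matrix m m A) +
            (U * (Matrix.of y).map (algebraMap R A) * L : Matrix m m A)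
        rw [show Matrix.of (x + y) = Matrix.of x + Matrix.of y from rfl,
          Matrix.map_add _ (map_add _), Matrix.mul_add, Matrix.add_mul]
      map_smul' := fun r x => by
        show U * (Matrix.of (r • x)).map (algebraMap R A) * L =
          r • (U * (Matrix.of x).map (algebraMap R A) * L : Matrix m m A)
        rw [show Matrix.of (r • x) = r • Matrix.of x from rfl,
          Matrix.map_smul (algebraMap R A) r (fun a => by rw [smul_eq_mul, map_mul, Algebra.smul_def]), Matrix.mul_smul,
          Matrix.smul_mul] }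
  have key : ∀ t : A ⊗[R] (ι → ι' → R), Matrix.of (ent (Ψ.lTensor A t)) =
      U.map ι₂ * ((Matrix.of (ent t)).map (TensorProduct.rid R A)).map ι₁ * L.map ι₂ := by
    intro t
    induction t using TensorProduct.induction_on with
    | zero => simp
    | add x y hx hy =>
      simp only [map_add, ← Matrix.of_add_of, Matrix.map_add _ (map_add _), Matrix.mul_add,
        Matrix.add_mul, hx, hy]
    | tmul a z =>
      ext i j
      simp only [LinearMap.lTensor_tmul, Matrix.of_apply, ent_tmul, Matrix.mul_apply,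
        Matrix.map_apply, TensorProduct.rid_tmul, Finset.sum_mul]
      rw [show Ψ z i j = (U * (Matrix.of z).map (algebraMap R A) * L) i j from rfl]
      simp only [Matrix.mul_apply, Finset.sum_mul, tmul_sum, Matrix.map_apply, Matrix.of_apply]
      refine Finset.sum_congr rfl fun l _ => Finset.sum_congr rfl fun k _ => ?_
      simp [← Algebra.smul_def, mul_comm (U i k), TensorProduct.smul_tmul]
  obtain ⟨t, ht⟩ := ent_surjective (A := A) (R := R) (N := R)
    (fun i j => (TensorProduct.rid R A).symm (C' i j))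
  obtain ⟨C, hC⟩ := mem_range_of_lTensor (A := A) Ψ (fun i j => P i j) t (ent_injective (by
    apply Matrix.of.injective
    rw [key, ht]
    have e : ((Matrix.of fun i j => (TensorProduct.rid R A).symm (C' i j)).map
        (TensorProduct.rid R A)) = C' := by ext; simp
    rw [e, h]
    rfl))
  exact ⟨Matrix.of C, congrArg Matrix.of hC⟩

end Groth.Agent.Lib.WittDesc.Classical
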