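import Groth.Agent.Lib.DescAlg.RingDescent.Elements
import Mathlib.Algebra.Module.Projective

/-!
Coordinates on extensions of scalars of a module with a finite dual basis.
-/

set_option backward.isDefEq.respectTransparency false
set_option backward.isDefEq.respectTransparency.types false

universe u
open CategoryTheory ModuleCat Matrix
open scoped ChangeOfRings
open Groth.Agent.Lib.DescAlg.RingDescent (E tm liftE liftE_tm tm_induction tm_add tm_smul tm_eq_smul smul_tm)

namespace Groth.Agent.Lib.WittDesc.Coord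

/-- A finite dual basis. -/
structure DB (R : CommRingCat.{u}) (X : ModuleCat.{u} R) (m : Type) [Fintype m] where
  e : m → X
  f : m → (X →ₗ[R] R)
  expand : ∀ x : X, ∑ j, f j x • e j = x

theorem exists_DB (R : CommRingCat.{u}) (X : ModuleCat.{u} R) [Module.Finite R X]
    [Module.Projective R X] : ∃ m : ℕ, Nonempty (DB R X (Fin m)) := by
  obtain ⟨m, f, g, -, -, hfg⟩ := Module.Finite.exists_comp_eq_id_of_projective R X
  refine ⟨m, ⟨⟨fun j => f (Pi.single j 1), fun j => (LinearMap.proj j).comp g, fun x => ?_⟩⟩⟩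
  conv_rhs => rw [← LinearMap.id_apply (R := R) x, ← hfg]
  rw [LinearMap.comp_apply, pi_eq_sum_univ' (g x), map_sum]
  simp

variable {R S T : CommRingCat.{u}} {X : ModuleCat.{u} R} {m : Type} [Fintype m] (b : DB R X m)

/-- The matrix of the projection. -/
noncomputable def DB.P : Matrix m m R := Matrix.of fun j l => b.f j (b.e l)

theorem DB.P_mulVec (x : X) : b.P *ᵥ (fun j => b.f j x) = fun j => b.f j x := by
  funext j
  conv_rhs => rw [← b.expand x]
  simp [DB.P, Matrix.mulVec, dotProduct, map_sum, mul_comm]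

theorem DB.P_mul : b.P * b.P = b.P := by
  ext j l
  exact congrFun (b.P_mulVec (b.e l)) j

/-- Coordinates after extension of scalars. -/
noncomputable def cf (g : R ⟶ S) : E g X →ₗ[S] (m → S) :=
  (liftE g (X := ModuleCat.of S (m → S)) (ModuleCat.ofHom (X := X)
    (Y := (restrictScalars g.hom).obj (ModuleCat.of S (m → S)))
    { toFun := fun x => show m → S from fun j => g.hom (b.f j x)
      map_add' := fun x y => by
        show (fun j => g.hom (b.f j (x + y))) = (fun j => g.hom (b.f j x) + g.hom (b.f j y))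
        simp
      map_smul' := fun r x => by
        show (fun j => g.hom (b.f j (r • x))) = (fun j => g.hom r * g.hom (b.f j x))
        simp })).hom

theorem cf_tm (g : R ⟶ S) (y : S) (x : X) (j : m) : cf b g (tm g y x) j = y * g.hom (b.f j x) := rfl

theorem cf_one (g : R ⟶ S) (x : X) (j : m) : cf b g (tm g 1 x) j = g.hom (b.f j x) := by
  rw [cf_tm, one_mul]

/-- `x ↦ 1 ⊗ x`. -/
noncomputable def tm1 (g : R ⟶ S) (X : ModuleCat.{u} R) : X →+ E g X :=
  AddMonoidHom.mk' (fun x => tm g 1 x) (tm_add g 1)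

theorem tm1_apply (g : R ⟶ S) (X : ModuleCat.{u} R) (x : X) : tm1 g X x = tm g 1 x := rfl

theorem tm_one_sum (g : R ⟶ S) {ι : Type} [Fintype ι] (c : ι → R) (x : ι → X) :
    tm g 1 (∑ i, c i • x i) = ∑ i, g.hom (c i) • tm g 1 (x i) := by
  rw [← tm1_apply, map_sum]
  refine Finset.sum_congr rfl fun i _ => ?_
  rw [tm1_apply, tm_smul, mul_one, tm_eq_smul]

theorem expand_cf (g : R ⟶ S) (z : E g X) : ∑ j, cf b g z j • tm g 1 (b.e j) = z := by
  induction z using tm_induction g with
  | h0 => simp
  | h1 y x =>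
    conv_rhs => rw [tm_eq_smul g y, ← b.expand x, tm_one_sum, Finset.smul_sum]
    simp only [cf_tm, mul_smul]
  | h2 x y hx hy => simp only [map_add, Pi.add_apply, add_smul, Finset.sum_add_distrib, hx, hy]

theorem cf_injective (g : R ⟶ S) : Function.Injective (cf b g) := fun x y h => by
  rw [← expand_cf b g x, ← expand_cf b g y, h]

theorem cf_sum (g : R ⟶ S) (c : m → S) :
    cf b g (∑ j, c j • tm g 1 (b.e j)) = (b.P.map g.hom) *ᵥ c := by
  funext i
  simp only [map_sum, map_smul, Finset.sum_apply, Pi.smul_apply, smul_eq_mul, cf_one,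
    Matrix.mulVec, dotProduct, Matrix.map_apply, DB.P, Matrix.of_apply]
  exact Finset.sum_congr rfl fun j _ => mul_comm _ _

theorem cf_fixed (g : R ⟶ S) (z : E g X) : (b.P.map g.hom) *ᵥ cf b g z = cf b g z := by
  conv_rhs => rw [← expand_cf b g z, cf_sum]

/-- The matrix of a morphism between two extensions of scalars. -/
noncomputable def mat {g g' : R ⟶ S} (ψ : E g X ⟶ E g' X) : Matrix m m S :=
  Matrix.of fun j l => cf b g' (ψ (tm g 1 (b.e l))) j

theorem cf_map {g g' : R ⟶ S} (ψ : E g X ⟶ E g' X) (z : E g X) :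
    cf b g' (ψ z) = mat b ψ *ᵥ cf b g z := by
  conv_lhs => rw [← expand_cf b g z]
  funext i
  simp only [map_sum, map_smul, Finset.sum_apply, Pi.smul_apply, smul_eq_mul,
    Matrix.mulVec, dotProduct, mat, Matrix.of_apply]
  exact Finset.sum_congr rfl fun j _ => mul_comm _ _

theorem mat_comp {g g' g'' : R ⟶ S} (ψ : E g X ⟶ E g' X) (ψ' : E g' X ⟶ E g'' X) :
    mat b (ψ ≫ ψ') = mat b ψ' * mat b ψ := by
  ext j l
  exact congrFun (cf_map b ψ' (ψ (tm g 1 (b.e l)))) j

theorem mat_id (g : R ⟶ S) : mat b (𝟙 (E g X)) = b.P.map g.hom := by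
  ext j l
  exact cf_one b g (b.e l) j

/-- The dual basis of an extension of scalars. -/
noncomputable def DB.base (g : R ⟶ S) : DB S (E g X) m where
  e := fun j => tm g 1 (b.e j)
  f := fun j => (LinearMap.proj j).comp (cf b g)
  expand := expand_cf b g

theorem DB.base_P (g : R ⟶ S) : (b.base g).P = b.P.map g.hom := by
  ext j l
  exact cf_one b g (b.e l) j

end Groth.Agent.Lib.WittDesc.Coord
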