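import Groth.Agent.Lib.WittDesc.Filt
import Groth.Agent.Lib.WittDesc.Classical
import Mathlib.RingTheory.TensorProduct.IncludeLeftSubRight
import Mathlib.RingTheory.Flat.FaithfullyFlat.Algebra

/-!
Descent of projective modules over truncated Witt rings, in matrix form.
-/

universe u

open TensorProduct Matrix

namespace Groth.Agent.Lib.WittDesc.Core

open Filt Classical

variable (p : ℕ) [hp : Fact p.Prime] (n : ℕ) {R A : Type u} [CommRing R] [CommRing A] [Algebra R A]

/-- Matrices over truncated Witt rings along a ring map. -/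
noncomputable abbrev mw {B C : Type u} [CommRing B] [CommRing C] {m κ : Type} (f : B →+* C)
    (X : Matrix m κ (TruncatedWittVector p n B)) : Matrix m κ (TruncatedWittVector p n C) :=
  X.map (WittGrp.truncMap p n f)

variable {p n}

theorem mw_mw {B C D : Type u} [CommRing B] [CommRing C] [CommRing D] {m κ : Type} (f : B →+* C)
    (g : C →+* D) (X : Matrix m κ (TruncatedWittVector p n B)) :
    mw p n g (mw p n f X) = mw p n (g.comp f) X := by
  simp only [mw, Matrix.map_map, WittGrp.truncMap_comp, RingHom.coe_comp]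

theorem mw_mul {B C : Type u} [CommRing B] [CommRing C] {m κ l : Type} [Fintype κ] (f : B →+* C)
    (X : Matrix m κ (TruncatedWittVector p n B)) (Y : Matrix κ l (TruncatedWittVector p n B)) :
    mw p n f (X * Y) = mw p n f X * mw p n f Y :=
  Matrix.map_mul

theorem mw_transpose {B C : Type u} [CommRing B] [CommRing C] {m κ : Type} (f : B →+* C)
    (X : Matrix m κ (TruncatedWittVector p n B)) : mw p n f Xᵀ = (mw p n f X)ᵀ :=
  Matrix.transpose_map

theorem mw_id {B : Type u} [CommRing B] {m κ : Type} (f : B →+* B) (hf : ∀ x, f x = x)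
    (X : Matrix m κ (TruncatedWittVector p n B)) : mw p n f X = X := by
  rw [show f = RingHom.id B from RingHom.ext hf]
  simp [mw, WittGrp.truncMap_id]

variable (R A p n) in
/-- A descent datum on the image of an idempotent matrix. -/
structure Datum (m : Type) [Fintype m] where
  P : Matrix m m (TruncatedWittVector p n A)
  H : Matrix m m (TruncatedWittVector p n (A ⊗[R] A))
  hP : P * P = P
  hHa : H * mw p n (ι₁ (R := R)).toRingHom P = H
  hHb : mw p n (ι₂ (R := R)).toRingHom P * H = H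
  hdiag : mw p n (Algebra.TensorProduct.lmul' R).toRingHom H = P
  hcoc : mw p n (ι₁₂ (R := R)).toRingHom H * mw p n (ι₀₁ (R := R)).toRingHom H =
    mw p n (ι₀₂ (R := R)).toRingHom H

namespace Datum

variable {m : Type} [Fintype m] (D : Datum p n R A m)

set_option quotPrecheck false in
local notation "a₂" => (AlgHom.toRingHom (ι₁ (R := R) (A := A)))
set_option quotPrecheck false in
local notation "b₂" => (AlgHom.toRingHom (ι₂ (R := R) (A := A)))

/-- The swap of `A ⊗ A`. -/
noncomputable abbrev sw : A ⊗[R] A →+* A ⊗[R] A :=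
  (Algebra.TensorProduct.comm R A A).toAlgHom.toRingHom

/-- The map `(0, 1, 2) ↦ (0, 1, 0)`. -/
noncomputable abbrev r010 : A ⊗[R] (A ⊗[R] A) →ₐ[R] A ⊗[R] A :=
  Algebra.TensorProduct.lift ι₁
    (Algebra.TensorProduct.comm R A A).toAlgHom (fun _ _ => Commute.all _ _)

/-- The reversal of `A ⊗ A ⊗ A`. -/
noncomputable abbrev rev : A ⊗[R] (A ⊗[R] A) →ₐ[R] A ⊗[R] (A ⊗[R] A) :=
  Algebra.TensorProduct.lift (Algebra.TensorProduct.includeRight.comp ι₂)
    (Algebra.TensorProduct.lift (Algebra.TensorProduct.includeRight.comp ι₁)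
      Algebra.TensorProduct.includeLeft (fun _ _ => Commute.all _ _)) (fun _ _ => Commute.all _ _)

theorem swap_mul : mw p n sw D.H * D.H = mw p n a₂ D.P := by
  have h := congrArg (mw p n (r010 (R := R) (A := A)).toRingHom) D.hcoc
  rw [mw_mul, mw_mw, mw_mw, mw_mw] at h
  rw [← D.hdiag, mw_mw]
  refine (Eq.trans ?_ h).trans ?_
  · congr 1
    · congr 1; ext x <;> simp [sw]
    · refine (mw_id _ (fun y => ?_) _).symm
      induction y using TensorProduct.induction_on with
      | zero => simp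
      | add x y hx hy => simp_all
      | tmul x y => simp
  · congr 1; ext x <;> simp

theorem mul_swap : D.H * mw p n sw D.H = mw p n b₂ D.P := by
  have h := congrArg (mw p n (sw (R := R) (A := A))) D.swap_mul
  rw [mw_mul, mw_mw, mw_mw] at h
  refine (Eq.trans ?_ h).trans ?_
  · congr 1
    refine (mw_id _ (fun y => ?_) _).symm
    induction y using TensorProduct.induction_on with
    | zero => simp
    | add x y hx hy => simp_all
    | tmul x y => simp [sw]
  · congr 1

/-- The dual datum. -/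
noncomputable def dual : Datum p n R A m where
  P := D.Pᵀ
  H := (mw p n sw D.H)ᵀ
  hP := by rw [← Matrix.transpose_mul, D.hP]
  hHa := by
    have h := congrArg (mw p n (sw (R := R) (A := A))) D.hHb
    rw [mw_mul, mw_mw] at h
    rw [mw_transpose, ← Matrix.transpose_mul]
    refine congrArg Matrix.transpose (Eq.trans ?_ h)
    congr 1
  hHb := by
    have h := congrArg (mw p n (sw (R := R) (A := A))) D.hHa
    rw [mw_mul, mw_mw] at h
    rw [mw_transpose, ← Matrix.transpose_mul]
    refine congrArg Matrix.transpose (Eq.trans ?_ h)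
    congr 1
  hdiag := by
    rw [mw_transpose, mw_mw]
    refine congrArg Matrix.transpose (Eq.trans ?_ D.hdiag)
    congr 1; ext x <;> simp [sw]
  hcoc := by
    have h := congrArg (mw p n (rev (R := R) (A := A)).toRingHom) D.hcoc
    rw [mw_mul, mw_mw, mw_mw, mw_mw] at h
    rw [mw_transpose, mw_transpose, mw_transpose, ← Matrix.transpose_mul, mw_mw, mw_mw, mw_mw]
    refine congrArg Matrix.transpose ((Eq.trans ?_ h).trans ?_)
    · congr 1 <;> (congr 1; ext x <;> simp [sw, rev])
    · congr 1; ext x <;> simp [sw, rev]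

variable [Module.FaithfullyFlat R A]

/-- A matrix fixed modulo the `i`-th step can be corrected to be fixed modulo the next one. -/
theorem exists_lift_step {κ : Type} [Fintype κ] {i : ℕ} (hi : i < n)
    (v : Matrix m κ (TruncatedWittVector p n A)) (hv : D.P * v = v)
    (hδ : ∀ x y, InK i ((D.H * mw p n a₂ v - mw p n b₂ v) x y)) :
    ∃ w : Matrix m κ (TruncatedWittVector p n A), D.P * w = w ∧
      (∀ x y, InK i ((w - v) x y)) ∧
      ∀ x y, InK (i + 1) ((D.H * mw p n a₂ w - mw p n b₂ w) x y) := by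
  set δ := D.H * mw p n a₂ v - mw p n b₂ v with hδdef
  set d : Matrix m κ (A ⊗[R] A) := δ.map (co i) with hd
  set G : Matrix m m (A ⊗[R] A) := D.H.map (gh i hi) with hG
  have hGmap : ∀ {B : Type u} [CommRing B] (f : A ⊗[R] A →+* B),
      G.map f = (mw p n f D.H).map (gh i hi) := fun f => by
    ext x y; simp [hG, gh_map]
  have hdmap : ∀ {B : Type u} [CommRing B] (f : A ⊗[R] A →+* B),
      d.map f = (mw p n f δ).map (co i) := fun f => by
    ext x y; simp [hd, co_map hi]
  have hcocG : G.map ι₁₂ * G.map ι₀₁ = G.map ι₀₂ := by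
    show G.map (ι₁₂ (R := R)).toRingHom * G.map (ι₀₁ (R := R)).toRingHom =
      G.map (ι₀₂ (R := R)).toRingHom
    rw [hGmap, hGmap, hGmap, ← Matrix.map_mul, D.hcoc]
  have hPδ : mw p n b₂ D.P * δ = δ := by
    rw [hδdef, Matrix.mul_sub, ← Matrix.mul_assoc, D.hHb, ← Matrix.map_mul, hv]
  have hmulK : ∀ {B : Type u} [CommRing B] {l : Type} [Fintype l]
      (X : Matrix l m (TruncatedWittVector p n B)) (Y : Matrix m κ (TruncatedWittVector p n B)),
      (∀ x y, InK i (Y x y)) → ∀ x y, InK i ((X * Y) x y) ∧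
        co i ((X * Y) x y) = (X.map (gh i hi) * Y.map (co i)) x y := by
    intro B _ l _ X Y hY x y
    obtain ⟨h1, h2⟩ := InK.sum hi Finset.univ fun z _ => (InK.mul hi (X x z) (hY z y)).1
    refine ⟨h1, h2.trans (Finset.sum_congr rfl fun z _ => ?_)⟩
    exact (InK.mul hi (X x z) (hY z y)).2
  have hbd : (D.P.map (gh i hi)).map ι₂ * d = d := by
    ext x y
    have h := (hmulK (mw p n b₂ D.P) δ hδ x y).2
    rw [hPδ] at h
    have e : (mw p n b₂ D.P).map (gh i hi) = (D.P.map (gh i hi)).map ι₂ := by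
      ext; simp [gh_map]
    rw [e] at h
    exact h.symm
  have hcd : G.map ι₁₂ * d.map ι₀₁ + d.map ι₁₂ = d.map ι₀₂ := by
    show G.map (ι₁₂ (R := R)).toRingHom * d.map (ι₀₁ (R := R)).toRingHom +
      d.map (ι₁₂ (R := R)).toRingHom = d.map (ι₀₂ (R := R)).toRingHom
    rw [hGmap, hdmap, hdmap, hdmap]
    ext x y
    have h1 := hmulK (mw p n (ι₁₂ (R := R)).toRingHom D.H) (mw p n (ι₀₁ (R := R)).toRingHom δ)
      (fun x y => (hδ x y).map (ι₀₁ (R := R)).toRingHom) x y
    have e : mw p n (ι₁₂ (R := R)).toRingHom D.H * mw p n (ι₀₁ (R := R)).toRingHom δ + mw p n (ι₁₂ (R := R)).toRingHom δ =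
        mw p n (ι₀₂ (R := R)).toRingHom δ := by
      simp only [hδdef, mw, Matrix.map_sub _ (map_sub _), Matrix.map_mul, Matrix.mul_sub,
        ← Matrix.mul_assoc]
      rw [D.hcoc]
      simp only [Matrix.map_map, ← RingHom.coe_comp, ← WittGrp.truncMap_comp]
      have e1 : (ι₀₁ (R := R) (A := A)).toRingHom.comp b₂ = (ι₁₂ (R := R)).toRingHom.comp a₂ := by
        ext; simp
      have e2 : (ι₀₁ (R := R) (A := A)).toRingHom.comp a₂ = (ι₀₂ (R := R)).toRingHom.comp a₂ := by
        ext; simp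
      have e3 : (ι₁₂ (R := R) (A := A)).toRingHom.comp b₂ = (ι₀₂ (R := R)).toRingHom.comp b₂ := by
        ext; simp
      rw [e1, e2, e3]
      abel
    rw [← e, Matrix.map_apply, Matrix.add_apply, Matrix.add_apply]
    rw [← h1.2]
    exact ((InK.add hi h1.1 ((hδ x y).map (ι₁₂ (R := R) (A := A)).toRingHom)).2).symm
  obtain ⟨z, hz⟩ := exists_coboundary (G := G) d hcd
  choose zK hzK hzco using fun x y => exists_inK_co (p := p) (n := n) (R := A) hi (z x y)
  refine ⟨v + D.P * Matrix.of zK, ?_, fun x y => ?_, ?_⟩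
  · rw [Matrix.mul_add, hv, ← Matrix.mul_assoc, D.hP]
  · rw [add_sub_cancel_left]
    exact (hmulK D.P (Matrix.of zK) hzK x y).1
  intro x y
  set u := D.P * Matrix.of zK
  have hu : ∀ x y, InK i (u x y) := fun x y => (hmulK D.P (Matrix.of zK) hzK x y).1
  have hu' : ∀ x y, InK i (mw p n a₂ u x y) := fun x y => (hu x y).map a₂
  have e : D.H * mw p n a₂ (v + u) - mw p n b₂ (v + u) =
      δ + (D.H * mw p n a₂ u - mw p n b₂ u) := by
    simp only [hδdef, mw, Matrix.map_add _ (map_add _), Matrix.mul_add]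
    abel
  obtain ⟨h1, h2⟩ := hmulK D.H (mw p n a₂ u) hu' x y
  have hub : InK i (mw p n b₂ u x y) := (hu x y).map b₂
  obtain ⟨h3, h4⟩ := InK.sub hi h1 hub
  obtain ⟨h5, h6⟩ := InK.add hi (hδ x y) h3
  rw [e, Matrix.add_apply, Matrix.sub_apply]
  refine inK_succ h5 fun _ => ?_
  rw [h6, h4, h2, show mw p n b₂ u x y = WittGrp.truncMap p n b₂ (u x y) from rfl, co_map hi]
  have eu : u.map (co i) = D.P.map (gh i hi) * z := by
    ext x y
    refine (hmulK D.P (Matrix.of zK) hzK x y).2.trans ?_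
    rw [show (Matrix.of zK).map (co i) = z from Matrix.ext fun a b => hzco a b]
  have eu1 : (mw p n a₂ u).map (co i) = (D.P.map (gh i hi) * z).map ι₁ := by
    rw [← eu]; ext; simp [co_map hi]
  rw [eu1, show b₂ (co i (u x y)) = ((D.P.map (gh i hi) * z).map ι₂) x y by rw [← eu]; simp]
  have key : d + (G * (D.P.map (gh i hi) * z).map ι₁ - (D.P.map (gh i hi) * z).map ι₂) = 0 := by
    have hGa : G * (D.P.map (gh i hi)).map ι₁ = G := by
      have : (D.P.map (gh i hi)).map ι₁ = (mw p n a₂ D.P).map (gh i hi) := by ext; simp [gh_map]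
      rw [this, hG, ← Matrix.map_mul, D.hHa]
    have hGb : (D.P.map (gh i hi)).map ι₂ * G = G := by
      have : (D.P.map (gh i hi)).map ι₂ = (mw p n b₂ D.P).map (gh i hi) := by ext; simp [gh_map]
      rw [this, hG, ← Matrix.map_mul, D.hHb]
    have h := congrArg ((D.P.map (gh i hi)).map ι₂ * ·) hz
    simp only [Matrix.mul_sub, Matrix.mul_neg, hbd, ← Matrix.mul_assoc, hGb] at h
    rw [Matrix.map_mul, Matrix.map_mul, ← Matrix.mul_assoc, hGa, h, add_neg_cancel]
  exact congrFun (congrFun key x) y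

/-- A matrix fixed modulo the first step lifts to a fixed one. -/
theorem exists_lift {κ : Type} [Fintype κ] (i : ℕ) (hi : 1 ≤ i)
    (v : Matrix m κ (TruncatedWittVector p n A)) (hv : D.P * v = v)
    (hδ : ∀ x y, InK 1 ((D.H * mw p n a₂ v - mw p n b₂ v) x y)) :
    ∃ w : Matrix m κ (TruncatedWittVector p n A), D.P * w = w ∧
      (∀ x y, InK 1 ((w - v) x y)) ∧
      ∀ x y, InK i ((D.H * mw p n a₂ w - mw p n b₂ w) x y) := by
  induction i, hi using Nat.le_induction with
  | base =>
    exact ⟨v, hv, fun x y => fun j _ hjn => by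
      rw [sub_self, Matrix.zero_apply, co_of_lt hjn, TruncatedWittVector.coeff_zero], hδ⟩
  | succ i hi ih =>
    obtain ⟨w, hw, hwv, hwδ⟩ := ih
    rcases Nat.lt_or_ge i n with hin | hin
    · obtain ⟨w', hw', hww, hw'δ⟩ := D.exists_lift_step hin w hw hwδ
      refine ⟨w', hw', fun x y => ?_, hw'δ⟩
      rw [show w' - v = (w' - w) + (w - v) by abel, Matrix.add_apply]
      exact (InK.add (by omega) (fun j hj => hww x y j (by omega)) (hwv x y)).1
    · exact ⟨w, hw, hwv, fun x y j _ hjn => hwδ x y j (hjn.trans_le hin) hjn⟩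

/-- There are enough fixed columns. -/
theorem exists_columns (h0 : 0 < n) :
    ∃ (ι : Type) (_ : Fintype ι) (U : Matrix m ι (TruncatedWittVector p n A))
      (V : Matrix ι m (TruncatedWittVector p n A)),
      D.P * U = U ∧ D.H * mw p n a₂ U = mw p n b₂ U ∧ (U * V).map (co 0) = D.P.map (co 0) := by
  classical
  set G : Matrix m m (A ⊗[R] A) := D.H.map (gh 0 h0) with hG
  have hGmap : ∀ {B : Type u} [CommRing B] (f : A ⊗[R] A →+* B),
      G.map f = (mw p n f D.H).map (gh 0 h0) := fun f => by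
    ext x y; simp [hG, gh_map]
  have hcocG : G.map ι₁₂ * G.map ι₀₁ = G.map ι₀₂ := by
    show G.map (ι₁₂ (R := R)).toRingHom * G.map (ι₀₁ (R := R)).toRingHom =
      G.map (ι₀₂ (R := R)).toRingHom
    rw [hGmap, hGmap, hGmap, ← Matrix.map_mul, D.hcoc]
  have hμ : G.map (Algebra.TensorProduct.lmul' R) = D.P.map (gh 0 h0) := by
    show G.map (Algebra.TensorProduct.lmul' R).toRingHom = _
    rw [hGmap, D.hdiag]
  obtain ⟨q, s, Γ, hΓ, hsum⟩ := exists_sections hcocG (B := D.P.map (gh 0 h0))
    (P := D.P.map (gh 0 h0)) (by rw [← Matrix.map_mul, D.hP]) hμ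
  let lift0 : A → TruncatedWittVector p n A := fun r =>
    WittVector.truncate n (WittVector.teichmuller p r)
  have hlift : ∀ r, gh 0 h0 (lift0 r) = r := fun r => by
    rw [gh_zero, co_truncate h0, WittVector.teichmuller_coeff_zero]
  let v : Matrix m (Fin q × m) (TruncatedWittVector p n A) :=
    D.P * Matrix.of fun x c => lift0 (Γ c.1 x c.2)
  have hv : D.P * v = v := by rw [← Matrix.mul_assoc, D.hP]
  have hv0 : v.map (gh 0 h0) = Matrix.of fun x c => Γ c.1 x c.2 := by
    rw [Matrix.map_mul]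
    ext x c
    have e : ∀ k, D.P.map (gh 0 h0) * Γ k = Γ k := fun k => by
      have h := congrArg (fun Y : Matrix m m (A ⊗[R] A) =>
        Y.map (Algebra.TensorProduct.lmul' R).toRingHom) (hΓ k)
      simp only [Matrix.map_mul] at h
      have e' : ∀ (f : A →ₐ[R] A ⊗[R] A), (∀ r, Algebra.TensorProduct.lmul' R (f r) = r) →
          ((Γ k).map f).map (Algebra.TensorProduct.lmul' R (S := A)).toRingHom = Γ k := fun f hf => by
        ext; simp [hf]
      rw [e' _ (by simp), e' _ (by simp)] at h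
      rw [← hμ]; exact h
    conv_rhs => rw [Matrix.of_apply, ← e]
    simp [Matrix.mul_apply, hlift]
  have hδ : ∀ x y, InK 1 ((D.H * mw p n a₂ v - mw p n b₂ v) x y) := fun x y =>
    inK_succ (inK_zero _) fun _ => by
      have e : (D.H * mw p n a₂ v - mw p n b₂ v).map (gh 0 h0) = 0 := by
        rw [Matrix.map_sub _ (map_sub _), Matrix.map_mul]
        have e1 : ∀ f : A →ₐ[R] A ⊗[R] A,
            (mw p n f.toRingHom v).map (gh 0 h0) = (v.map (gh 0 h0)).map f := fun f => by
          ext; simp [gh_map]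
        rw [e1, e1, hv0, sub_eq_zero]
        ext x c
        exact congrFun (congrFun (hΓ c.1) x) c.2
      rw [← gh_zero h0]
      exact congrFun (congrFun e x) y
  obtain ⟨U, hU, hUv, hUδ⟩ := D.exists_lift n h0 v hv hδ
  refine ⟨Fin q × m, inferInstance, U,
    Matrix.of (fun c y => if c.2 = y then lift0 (s c.1) else 0), hU, ?_, ?_⟩
  · rw [← sub_eq_zero]
    exact Matrix.ext fun x y => eq_zero_of_inK le_rfl (hUδ x y)
  · have hU0 : U.map (gh 0 h0) = Matrix.of fun x c => Γ c.1 x c.2 := by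
      rw [← hv0, ← sub_eq_zero, ← Matrix.map_sub _ (map_sub _)]
      ext x y
      rw [Matrix.map_apply, gh_zero, Matrix.zero_apply]
      exact hUv x y 0 Nat.one_pos h0
    have hco : ∀ {l l' : Type} (X : Matrix l l' (TruncatedWittVector p n A)),
        X.map (co 0) = X.map (gh 0 h0) := fun X => by ext; simp [gh_zero]
    rw [hco, hco, Matrix.map_mul, hU0, ← hsum]
    ext x y
    simp [Matrix.mul_apply, Fintype.sum_prod_type, apply_ite (gh 0 h0), hlift, Matrix.sum_apply,
      mul_comm]

/-- Effectiveness: the datum is the base change of an idempotent over `W_n(R)`. -/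
theorem exists_descended (hpA : IsNilpotent (p : A)) :
    ∃ (ι : Type) (_ : Fintype ι) (E : Matrix ι ι (TruncatedWittVector p n R))
      (U : Matrix m ι (TruncatedWittVector p n A)) (V : Matrix ι m (TruncatedWittVector p n A)),
      E * E = E ∧ D.P * U = U ∧ U * V = D.P ∧ V * U = mw p n (algebraMap R A) E ∧
      D.H * mw p n a₂ U = mw p n b₂ U ∧ V * D.P = V ∧ mw p n b₂ V * D.H = mw p n a₂ V := by
  classical
  rcases Nat.eq_zero_or_pos n with rfl | h0
  · haveI : ∀ (B : Type u) [CommRing B], Subsingleton (TruncatedWittVector p 0 B) :=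
      fun B _ => ⟨fun x y => ext_co fun i hi => absurd hi (Nat.not_lt_zero i)⟩
    exact ⟨m, inferInstance, 0, 0, 0, Subsingleton.elim _ _, Subsingleton.elim _ _,
      Subsingleton.elim _ _, Subsingleton.elim _ _, Subsingleton.elim _ _, Subsingleton.elim _ _,
      Subsingleton.elim _ _⟩
  obtain ⟨ι, _, U, V₀, hPU, hHU, hUV⟩ := D.exists_columns h0
  obtain ⟨ι', _, U', V', hPU', hHU', hUV'⟩ := D.dual.exists_columns h0
  let L : Matrix ι' m (TruncatedWittVector p n A) := U'ᵀ
  have hLP : L * D.P = L := by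
    have h := congrArg Matrix.transpose hPU'
    rwa [Matrix.transpose_mul, show D.dual.P = D.Pᵀ from rfl, Matrix.transpose_transpose] at h
  have hLH : mw p n b₂ L = mw p n a₂ L * mw p n sw D.H := by
    have h := congrArg Matrix.transpose hHU'
    rw [Matrix.transpose_mul, show D.dual.H = (mw p n sw D.H)ᵀ from rfl,
      Matrix.transpose_transpose] at h
    rw [mw_transpose, mw_transpose]
    exact h.symm
  have hbLH : mw p n b₂ L * D.H = mw p n a₂ L := by
    rw [hLH, Matrix.mul_assoc, D.swap_mul, ← Matrix.map_mul, hLP]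
  let φ₀ := gh (p := p) (n := n) (R := A) 0 h0
  have hco : ∀ {l l' : Type} (X : Matrix l l' (TruncatedWittVector p n A)),
      X.map (co 0) = X.map φ₀ := fun X => by ext; simp [φ₀, gh_zero]
  have hUV1 : U.map φ₀ * V₀.map φ₀ = D.P.map φ₀ := by
    rw [← Matrix.map_mul, ← hco, ← hco, hUV]
  have hUV1' : V'ᵀ.map φ₀ * L.map φ₀ = D.P.map φ₀ := by
    rw [← Matrix.map_mul, show V'ᵀ * L = (U' * V')ᵀ from (Matrix.transpose_mul _ _).symm,
      ← hco, ← hco, Matrix.transpose_map, hUV', ← Matrix.transpose_map]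
    rfl
  obtain ⟨C₁, hC₁⟩ := exists_descended_middle (U.map φ₀) (L.map φ₀) (V₀.map φ₀ * V'ᵀ.map φ₀)
    (P := D.P.map φ₀) (by
    let ψ := gh (p := p) (n := n) (R := A ⊗[R] A) 0 h0
    have e : ∀ {l l' : Type} (f : A →ₐ[R] A ⊗[R] A) (X : Matrix l l' (TruncatedWittVector p n A)),
        (X.map φ₀).map f = (mw p n f.toRingHom X).map ψ := fun f X => by
      ext; simp [φ₀, ψ, gh_map]
    have h1 : (U.map φ₀).map (ι₁ (R := R)) * ((V₀.map φ₀ * V'ᵀ.map φ₀).map (ι₁ (R := R))) *
        (L.map φ₀).map (ι₁ (R := R)) = (D.P.map φ₀).map (ι₁ (R := R)) := by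
      rw [← Matrix.map_mul, ← Matrix.map_mul, ← Matrix.mul_assoc, hUV1, Matrix.mul_assoc, hUV1',
        ← Matrix.map_mul, D.hP]
    have hU2 : (U.map φ₀).map (ι₂ (R := R)) = D.H.map ψ * (U.map φ₀).map (ι₁ (R := R)) := by
      rw [e, e, ← Matrix.map_mul, hHU]
    have hL2 : (L.map φ₀).map (ι₂ (R := R)) =
        (L.map φ₀).map (ι₁ (R := R)) * (mw p n sw D.H).map ψ := by
      rw [e, e, ← Matrix.map_mul, hLH]
    rw [hU2, hL2]
    simp only [Matrix.mul_assoc] at h1 ⊢
    have h1' : ∀ (K : Matrix m m (A ⊗[R] A)), (U.map φ₀).map (ι₁ (R := R)) *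
        ((V₀.map φ₀ * V'ᵀ.map φ₀).map (ι₁ (R := R)) * ((L.map φ₀).map (ι₁ (R := R)) * K)) =
        (D.P.map φ₀).map (ι₁ (R := R)) * K := fun K => by
      rw [← h1]; simp only [Matrix.mul_assoc]
    rw [h1', e, e, ← Matrix.map_mul, ← Matrix.map_mul, ← Matrix.mul_assoc, D.hHa, D.mul_swap])
  let C : Matrix ι ι' (TruncatedWittVector p n R) :=
    Matrix.of fun x y => WittVector.truncate n (WittVector.teichmuller p (C₁ x y))
  let C' := mw p n (algebraMap R A) C
  have hC : mw p n a₂ C' = mw p n b₂ C' := by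
    rw [mw_mw, mw_mw, show RingHom.comp b₂ (algebraMap R A) = RingHom.comp a₂ (algebraMap R A) from
      (ι₂ (R := R) (A := A)).comp_algebraMap.trans (ι₁ (R := R) (A := A)).comp_algebraMap.symm]
  let X := U * C' * L
  have hX0 : X.map φ₀ = D.P.map φ₀ := by
    rw [Matrix.map_mul, Matrix.map_mul, ← hC₁]
    congr 2
    ext x y
    simp [C', C, φ₀, gh_map, gh_zero, co_truncate h0]
  have hPX : D.P * X = X := by rw [← Matrix.mul_assoc, ← Matrix.mul_assoc, hPU]
  have hXP : X * D.P = X := by rw [Matrix.mul_assoc, hLP]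
  have hHX : D.H * mw p n a₂ X = mw p n b₂ X * D.H := by
    simp only [X, mw, Matrix.map_mul]
    rw [← Matrix.mul_assoc, ← Matrix.mul_assoc]
    rw [Matrix.mul_assoc _ (L.map _) D.H]
    rw [show D.H * U.map (WittGrp.truncMap p n a₂) = U.map (WittGrp.truncMap p n b₂) from hHU,
      show L.map (WittGrp.truncMap p n b₂) * D.H = L.map (WittGrp.truncMap p n a₂) from hbLH,
      show C'.map (WittGrp.truncMap p n a₂) = C'.map (WittGrp.truncMap p n b₂) from hC]
  let Z := 1 - (D.P - X)
  have hZu : IsUnit Z := by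
    refine (Matrix.isUnit_iff_isUnit_det Z).2 (isUnit_of_co_zero hpA fun _ => ?_)
    rw [← gh_zero h0, RingHom.map_det, RingHom.mapMatrix_apply]
    show (Z.map φ₀).det = 1
    rw [Matrix.map_sub _ (map_sub _), Matrix.map_sub _ (map_sub _), hX0, sub_self, sub_zero,
      Matrix.map_one _ (map_zero _) (map_one _), Matrix.det_one]
  obtain ⟨Zu, hZu⟩ := hZu
  let Zi : Matrix m m (TruncatedWittVector p n A) := ↑Zu⁻¹
  have hZ1 : Z * Zi = 1 := by rw [← hZu]; exact Zu.mul_inv
  have hZ2 : Zi * Z = 1 := by rw [← hZu]; exact Zu.inv_mul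
  have hPZ : D.P * Z = X := by
    simp only [Z, Matrix.mul_sub, Matrix.mul_one, D.hP, hPX]; abel
  have hZP : Z * D.P = X := by
    simp only [Z, Matrix.sub_mul, Matrix.one_mul, D.hP, hXP]; abel
  have hHZ : D.H * mw p n a₂ Z = mw p n b₂ Z * D.H := by
    simp only [Z, mw, Matrix.map_sub _ (map_sub _), Matrix.map_one _ (map_zero _) (map_one _),
      Matrix.mul_sub, Matrix.sub_mul, Matrix.mul_one, Matrix.one_mul]
    rw [show D.H * D.P.map (WittGrp.truncMap p n a₂) = D.H from D.hHa,
      show D.P.map (WittGrp.truncMap p n b₂) * D.H = D.H from D.hHb]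
    rw [show D.H * X.map (WittGrp.truncMap p n a₂) = X.map (WittGrp.truncMap p n b₂) * D.H from hHX]
  have hHZi : D.H * mw p n a₂ Zi = mw p n b₂ Zi * D.H := by
    calc D.H * mw p n a₂ Zi = mw p n b₂ (Zi * Z) * D.H * mw p n a₂ Zi := by
          rw [hZ2, show mw p n b₂ (1 : Matrix m m (TruncatedWittVector p n A)) = 1 from
            Matrix.map_one _ (map_zero _) (map_one _), Matrix.one_mul]
      _ = mw p n b₂ Zi * (D.H * mw p n a₂ Z) * mw p n a₂ Zi := by
          rw [hHZ, mw, Matrix.map_mul]; simp only [mw, Matrix.mul_assoc]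
      _ = _ := by
          rw [Matrix.mul_assoc, Matrix.mul_assoc, mw, ← Matrix.map_mul, hZ1,
            Matrix.map_one _ (map_zero _) (map_one _), Matrix.mul_one]
  have hPZi : D.P * Zi = Zi * D.P := by
    calc D.P * Zi = Zi * (Z * D.P) * Zi := by rw [← Matrix.mul_assoc Zi Z, hZ2, Matrix.one_mul]
      _ = Zi * (D.P * Z) * Zi := by rw [hZP, hPZ]
      _ = _ := by rw [Matrix.mul_assoc, Matrix.mul_assoc, hZ1, Matrix.mul_one]
  let V := C' * L * Zi
  have hUV' : U * V = D.P := by
    show U * (C' * L * Zi) = _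
    rw [← Matrix.mul_assoc, ← Matrix.mul_assoc, show U * C' * L = X from rfl, ← hPZ,
      Matrix.mul_assoc, hZ1, Matrix.mul_one]
  have hVH : mw p n b₂ V * D.H = mw p n a₂ V := by
    simp only [V, mw, Matrix.map_mul] at *
    rw [Matrix.mul_assoc, ← hHZi, ← Matrix.mul_assoc, Matrix.mul_assoc _ _ D.H, hbLH, hC]
  have hE : ∀ x y, ∃ e : TruncatedWittVector p n R,
      WittGrp.truncMap p n (algebraMap R A) e = (V * U) x y := by
    intro x y
    have hab : mw p n a₂ (V * U) = mw p n b₂ (V * U) := by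
      rw [mw_mul a₂ V U, mw_mul b₂ V U, ← hVH, Matrix.mul_assoc, hHU]
    have hc : ∀ i : Fin n, ∃ r : R, algebraMap R A r = ((V * U) x y).coeff i := fun i => by
      have he := congrArg (fun Y : Matrix ι ι (TruncatedWittVector p n (A ⊗[R] A)) =>
        (Y x y).coeff i) hab
      simp only [Matrix.map_apply, WittGrp.coeff_truncMap] at he
      refine Set.mem_range.mp ?_
      exact Algebra.IsEffective.eqLocus_includeLeft_includeRight
        (Algebra.IsEffective.of_faithfullyFlat R A) ▸ he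
    choose r hr using hc
    exact ⟨TruncatedWittVector.mk p r, TruncatedWittVector.ext fun i => by
      rw [WittGrp.coeff_truncMap, TruncatedWittVector.coeff_mk, hr]⟩
  choose E hE using hE
  have hE' : mw p n (algebraMap R A) (Matrix.of E) = V * U := Matrix.ext fun x y => hE x y
  refine ⟨ι, ‹_›, Matrix.of E, U, V, ?_, hPU, hUV', hE'.symm, hHU, ?_, hVH⟩
  · apply Matrix.map_injective (f := WittGrp.truncMap p n (algebraMap R A))
      (fun a b h => TruncatedWittVector.ext fun i => FaithfulSMul.algebraMap_injective R A (by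
        simpa using congrArg (fun z => z.coeff i) h))
    show (Matrix.of E * Matrix.of E).map _ = (Matrix.of E).map _
    rw [Matrix.map_mul]
    show mw p n (algebraMap R A) (Matrix.of E) * mw p n (algebraMap R A) (Matrix.of E) =
      mw p n (algebraMap R A) (Matrix.of E)
    rw [hE', Matrix.mul_assoc, ← Matrix.mul_assoc U, hUV', hPU]
  · rw [Matrix.mul_assoc, ← hPZi, ← Matrix.mul_assoc, Matrix.mul_assoc C' L, hLP]

end Datum

end Groth.Agent.Lib.WittDesc.Core
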