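import Groth.Agent.Lib.WittDesc.Translate
import Mathlib.Algebra.Category.ModuleCat.Projective

/-!
Effectiveness and full faithfulness of descent of finite projective modules over truncated Witt rings.
-/

set_option backward.isDefEq.respectTransparency false
set_option backward.isDefEq.respectTransparency.types false

universe u
open CategoryTheory ModuleCat Opposite Matrix
open scoped ChangeOfRings TensorProduct
open Groth.Agent.Lib.DescAlg.RingDescent (E tm hom_ext' tm_eq_smul)
open Groth.Agent.Lib.WittDesc.Pseudo Groth.Agent.Lib.WittDesc.Coord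
open Groth.Agent.Lib.WittDesc.Translate

namespace Groth.Agent.Lib.WittDesc.Descent

section image

variable {W : CommRingCat.{u}} {ι : Type} [Fintype ι] (M₀ : Matrix ι ι W)

/-- The image of a matrix, as a module. -/
noncomputable abbrev im : ModuleCat.{u} W := ModuleCat.of W (LinearMap.range M₀.mulVecLin)

/-- The dual basis of the image of an idempotent matrix. -/
noncomputable def imDB (h : M₀ * M₀ = M₀) : DB W (im M₀) ι := by
  classical
  exact
    { e := fun k => (⟨M₀ *ᵥ Pi.single k 1, ⟨_, rfl⟩⟩ : LinearMap.range M₀.mulVecLin)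
      f := fun k => (LinearMap.proj k).comp (LinearMap.range M₀.mulVecLin).subtype
      expand := by
        rintro ⟨x, y, rfl⟩
        apply Subtype.ext
        rw [AddSubmonoidClass.coe_finsetSum]
        show ∑ k, (M₀ *ᵥ y) k • (M₀ *ᵥ Pi.single k 1) = M₀ *ᵥ y
        calc _ = M₀ *ᵥ ∑ k, (M₀ *ᵥ y) k • Pi.single k 1 := by
              rw [Matrix.mulVec_sum]
              exact Finset.sum_congr rfl fun k _ => (Matrix.mulVec_smul _ _ _).symm
          _ = M₀ *ᵥ (M₀ *ᵥ y) := by rw [← pi_eq_sum_univ' (M₀ *ᵥ y)]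
          _ = _ := by rw [Matrix.mulVec_mulVec, h] }

theorem imDB_P (h : M₀ * M₀ = M₀) : (imDB M₀ h).P = M₀ := by
  classical
  ext j l
  show (M₀ *ᵥ Pi.single l 1) j = M₀ j l
  simp [Matrix.mulVec, dotProduct, Pi.single_apply]

theorem im_finite_projective (h : M₀ * M₀ = M₀) :
    Module.Finite W (im M₀) ∧ Module.Projective W (im M₀) := by
  refine ⟨inferInstance, Module.Projective.of_split (LinearMap.range M₀.mulVecLin).subtype
    M₀.mulVecLin.rangeRestrict ?_⟩
  refine LinearMap.ext fun x => Subtype.ext ?_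
  obtain ⟨y, hy⟩ := x.2
  show M₀ *ᵥ (x : ι → W) = x
  rw [← hy]
  show M₀ *ᵥ (M₀ *ᵥ y) = M₀ *ᵥ y
  rw [Matrix.mulVec_mulVec, h]

end image

section lin

variable {B C : CommRingCat.{u}} {X Y : ModuleCat.{u} B} {m ι : Type} [Fintype m] [Fintype ι]
  (β : DB B X m) (γ : DB B Y ι)

/-- The morphism with a given matrix. -/
noncomputable def ofMat (U : Matrix m ι B) : Y ⟶ X :=
  ModuleCat.ofHom ((Fintype.linearCombination B β.e).comp (U.mulVecLin.comp (LinearMap.pi γ.f)))

theorem f_ofMat (U : Matrix m ι B) (y : Y) :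
    (fun j => β.f j (ofMat β γ U y)) = β.P *ᵥ (U *ᵥ fun k => γ.f k y) := by
  funext i
  show β.f i (∑ j, (U *ᵥ fun k => γ.f k y) j • β.e j) = _
  rw [map_sum]
  simp [DB.P, Matrix.mulVec, dotProduct, mul_comm]

theorem hom_inv_of_mat (U : Matrix m ι B) (V : Matrix ι m B) (hU : β.P * U = U) (hUV : U * V = β.P)
    (hγ : γ.P * V = V) (y : X) : ofMat β γ U (ofMat γ β V y) = y := by
  have h : (fun j => β.f j (ofMat β γ U (ofMat γ β V y))) = fun j => β.f j y := by
    rw [f_ofMat, f_ofMat, Matrix.mulVec_mulVec, hU, Matrix.mulVec_mulVec _ γ.P V, hγ,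
      Matrix.mulVec_mulVec, hUV, β.P_mulVec]
  rw [← β.expand (ofMat β γ U (ofMat γ β V y))]
  conv_rhs => rw [← β.expand y]
  exact Finset.sum_congr rfl fun j _ => by rw [congrFun h j]

/-- The isomorphism given by two matrices inverse to each other on the images. -/
noncomputable def isoOfMat (U : Matrix m ι B) (V : Matrix ι m B) (hUV : U * V = β.P)
    (hVU : V * U = γ.P) (hU : β.P * U = U) (hV : γ.P * V = V) : Y ≅ X where
  hom := ofMat β γ U
  inv := ofMat γ β V
  hom_inv_id := ModuleCat.hom_ext (LinearMap.ext fun y => hom_inv_of_mat γ β V U hV hVU hU y)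
  inv_hom_id := ModuleCat.hom_ext (LinearMap.ext fun y => hom_inv_of_mat β γ U V hU hUV hV y)

theorem cf_ofMat_one (g : B ⟶ C) (U : Matrix m ι B) (hU : β.P * U = U) (y : Y) :
    cf β g (tm g 1 (ofMat β γ U y)) = U.map g.hom *ᵥ fun k => g.hom (γ.f k y) := by
  funext i
  rw [cf_one, congrFun (f_ofMat β γ U y) i, Matrix.mulVec_mulVec, hU]
  simp [Matrix.mulVec, dotProduct, map_sum]

end lin

variable {p : ℕ} [Fact p.Prime] {n : ℕ} {R A : Type u} [CommRing R] [CommRing A] [Algebra R A]

theorem cf_tm_one_comp {S₀ S T : CommRingCat.{u}} {M : ModuleCat.{u} S₀} {ι : Type} [Fintype ι]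
    (γ : DB S₀ M ι) (f : S₀ ⟶ S) (g : S ⟶ T) (x : M) :
    cf (γ.base f) g (tm g 1 (tm f 1 x)) = fun k => g.hom (f.hom (γ.f k x)) := by
  funext k
  rw [cf_one]
  exact congrArg g.hom (cf_one γ f x k)

/-- The equivariance of a map out of a canonical datum given by a fixed matrix. -/
theorem comm_ofMat (D : DD p n R A) {m ι : Type} [Fintype m] [Fintype ι]
    (β : DB ((WT p n).obj (CommRingCat.of A)) (dobj D) m)
    (M : ModuleCat.{u} ((WT p n).obj (CommRingCat.of R)))
    (γ : DB ((WT p n).obj (CommRingCat.of R)) M ι)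
    (U : Matrix m ι ((WT p n).obj (CommRingCat.of A))) (hPU : β.P * U = U)
    (hU : Hm D β (a2 R A) (b2 R A) w2 * U.map ((WT p n).map (a2 R A)).hom =
      U.map ((WT p n).map (b2 R A)).hom)
    {T : CommRingCat.{u}} (a b : CommRingCat.of A ⟶ T) (h : CommRingCat.ofHom (algebraMap R A) ≫ a = CommRingCat.ofHom (algebraMap R A) ≫ b) :
    (extendScalars ((WT p n).map a).hom).map (ofMat β (γ.base ((WT p n).map (CommRingCat.ofHom (algebraMap R A)))) U) ≫
        hh D a b h =
      hc M a b h ≫
        (extendScalars ((WT p n).map b).hom).map (ofMat β (γ.base ((WT p n).map (CommRingCat.ofHom (algebraMap R A)))) U) := by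
  set fφ := (WT p n).map (CommRingCat.ofHom (algebraMap R A))
  rw [← cancel_epi (mcIso p n (CommRingCat.ofHom (algebraMap R A)) a (CommRingCat.ofHom (algebraMap R A) ≫ a) rfl M).hom]
  refine hom_ext' ((WT p n).map (CommRingCat.ofHom (algebraMap R A) ≫ a)) fun x => ?_
  simp only [ModuleCat.comp_apply, mcIso_hom_one, hc_one]
  show hh D a b h (tm ((WT p n).map a) 1 (ofMat β (γ.base fφ) U (tm fφ 1 x))) =
    tm ((WT p n).map b) 1 (ofMat β (γ.base fφ) U (tm fφ 1 x))
  apply cf_injective β
  rw [cf_map β (hh D a b h), cf_ofMat_one β _ _ U hPU, cf_ofMat_one β _ _ U hPU,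
    Matrix.mulVec_mulVec]
  rw [show mat β (hh D a b h) = Hm D β a b h from rfl, Hm_mul_of_fixed D β U hU a b h]
  congr 1
  funext k
  show ((WT p n).map a).hom (cf γ fφ (tm fφ 1 x) k) = ((WT p n).map b).hom (cf γ fφ (tm fφ 1 x) k)
  rw [cf_one, ← RingHom.comp_apply, ← RingHom.comp_apply, ← CommRingCat.hom_comp,
    ← CommRingCat.hom_comp, ← Functor.map_comp, ← Functor.map_comp, h]

/-- An isomorphism of descent data from an equivariant isomorphism. -/
noncomputable def isoDD (D' D : DD p n R A) (e : dobj D' ≅ dobj D)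
    (he : ∀ {T : CommRingCat.{u}} (a b : CommRingCat.of A ⟶ T) (h : CommRingCat.ofHom (algebraMap R A) ≫ a = CommRingCat.ofHom (algebraMap R A) ≫ b),
      (extendScalars ((WT p n).map a).hom).map e.hom ≫ hh D a b h =
        hh D' a b h ≫ (extendScalars ((WT p n).map b).hom).map e.hom) :
    D' ≅ D :=
  Pseudofunctor.DescentData.isoMk (fun _ => e) (fun Y q i₁ i₂ f₁ f₂ hf₁ hf₂ => by
    obtain rfl : q = (CommRingCat.ofHom (algebraMap R A) ≫ f₁.unop).op := hf₁.symm
    exact he f₁.unop f₂.unop (Quiver.Hom.op_inj hf₂.symm))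

/-- An isomorphism out of a canonical datum. -/
noncomputable def isoCan (D : DD p n R A) (M : ModuleCat.{u} ((WT p n).obj (CommRingCat.of R)))
    (e : E ((WT p n).map (CommRingCat.ofHom (algebraMap R A))) M ≅ dobj D)
    (he : ∀ {T : CommRingCat.{u}} (a b : CommRingCat.of A ⟶ T) (h : CommRingCat.ofHom (algebraMap R A) ≫ a = CommRingCat.ofHom (algebraMap R A) ≫ b),
      (extendScalars ((WT p n).map a).hom).map e.hom ≫ hh D a b h =
        hc M a b h ≫ (extendScalars ((WT p n).map b).hom).map e.hom) :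
    can (A := A) M ≅ D :=
  isoDD (can (A := A) M) D e fun a b h => he a b h

theorem effective (hp : IsNilpotent (p : R)) [Module.FaithfullyFlat R A] (D : DD p n R A)
    [Module.Finite ((WT p n).obj (CommRingCat.of A)) (dobj D)]
    [Module.Projective ((WT p n).obj (CommRingCat.of A)) (dobj D)] :
    ∃ M : ModuleCat.{u} ((WT p n).obj (CommRingCat.of R)),
      Module.Finite ((WT p n).obj (CommRingCat.of R)) M ∧
      Module.Projective ((WT p n).obj (CommRingCat.of R)) M ∧ Nonempty (can (A := A) M ≅ D) := by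
  obtain ⟨k, ⟨β⟩⟩ := exists_DB _ (dobj D)
  have hpA : IsNilpotent (p : A) := by simpa using hp.map (algebraMap R A)
  obtain ⟨ι, _, E₀, U, V, hE, hPU, hUV, hVU, hHU, hVP, -⟩ :=
    (toDatum D β).exists_descended hpA
  let E₁ : Matrix ι ι ((WT p n).obj (CommRingCat.of R)) := E₀
  have hE₁ : E₁ * E₁ = E₁ := hE
  let γ : DB ((WT p n).obj (CommRingCat.of R)) (im E₁) ι := imDB E₁ hE₁
  let fφ := (WT p n).map (CommRingCat.ofHom (algebraMap R A))
  have hP : (γ.base fφ).P = V * U := by
    rw [DB.base_P, imDB_P]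
    exact hVU.symm
  obtain ⟨hF, hPr⟩ := im_finite_projective E₁ hE₁
  refine ⟨im E₁, hF, hPr, ⟨?_⟩⟩
  refine isoCan D (im E₁) (isoOfMat β (γ.base fφ) U V hUV hP.symm hPU ?_) (fun a b h => ?_)
  · rw [hP, Matrix.mul_assoc, hUV]; exact hVP
  · exact comm_ofMat D β (im E₁) γ U hPU hHU a b h

variable [Module.FaithfullyFlat R A]

theorem map_injective :
    Function.Injective ((WT p n).map (CommRingCat.ofHom (algebraMap R A))).hom := fun a b h =>
  TruncatedWittVector.ext fun i => FaithfulSMul.algebraMap_injective R A (by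
    have := congrArg (fun z => TruncatedWittVector.coeff (p := p) i z) h
    exact (WittGrp.coeff_truncMap p n _ _ i).symm.trans (this.trans (WittGrp.coeff_truncMap p n _ _ i)))

theorem exists_descend (c : (WT p n).obj (CommRingCat.of A))
    (h : ((WT p n).map (a2 R A)).hom c = ((WT p n).map (b2 R A)).hom c) :
    ∃ r, ((WT p n).map (CommRingCat.ofHom (algebraMap R A))).hom r = c := by
  have hc : ∀ i : Fin n, ∃ r : R, algebraMap R A r = TruncatedWittVector.coeff (p := p) i c := fun i => by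
    have h0 := congrArg (fun z => TruncatedWittVector.coeff (p := p) i z) h
    have h1 : (Algebra.TensorProduct.includeLeftRingHom : A →+* A ⊗[R] A)
          (TruncatedWittVector.coeff (p := p) i c) =
        (Algebra.TensorProduct.includeRight : A →ₐ[R] A ⊗[R] A)
          (TruncatedWittVector.coeff (p := p) i c) :=
      (WittGrp.coeff_truncMap p n _ _ i).symm.trans (h0.trans (WittGrp.coeff_truncMap p n _ _ i))
    refine Set.mem_range.mp ?_
    exact Algebra.IsEffective.eqLocus_includeLeft_includeRight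
      (Algebra.IsEffective.of_faithfullyFlat R A) ▸ h1
  choose r hr using hc
  exact ⟨TruncatedWittVector.mk p r, TruncatedWittVector.ext fun i =>
    (WittGrp.coeff_truncMap p n _ _ i).trans
      ((congrArg (algebraMap R A) (TruncatedWittVector.coeff_mk r i)).trans (hr i))⟩

theorem tm_one_injective {M : ModuleCat.{u} ((WT p n).obj (CommRingCat.of R))} {ι : Type}
    [Fintype ι] (γ : DB ((WT p n).obj (CommRingCat.of R)) M ι) :
    Function.Injective fun x : M => tm ((WT p n).map (CommRingCat.ofHom (algebraMap R A))) 1 x := fun x y h => by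
  rw [← γ.expand x, ← γ.expand y]
  refine Finset.sum_congr rfl fun k _ => ?_
  have h1 := congrFun (congrArg (cf γ ((WT p n).map (CommRingCat.ofHom (algebraMap R A)))) h) k
  rw [cf_one, cf_one] at h1
  rw [map_injective h1]

theorem apply_eq_of_comp_eq {B : CommRingCat.{u}} {X Y Y' Z : ModuleCat.{u} B} {f : X ⟶ Y}
    {g : Y ⟶ Z} {f' : X ⟶ Y'} {g' : Y' ⟶ Z} (h : f ≫ g = f' ≫ g') (x : X) :
    g (f x) = g' (f' x) := by
  rw [← ModuleCat.comp_apply, h, ModuleCat.comp_apply]

theorem map_tm {B C : CommRingCat.{u}} (g : B ⟶ C) {X Y : ModuleCat.{u} B} (ψ : X ⟶ Y) (x : X) :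
    (extendScalars g.hom).map ψ (tm g 1 x) = tm g 1 (ψ x) :=
  rfl

theorem comm_hh (D D' : DD p n R A) (ψ : D ⟶ D') {T : CommRingCat.{u}}
    (a b : CommRingCat.of A ⟶ T) (h : CommRingCat.ofHom (algebraMap R A) ≫ a = CommRingCat.ofHom (algebraMap R A) ≫ b) :
    (extendScalars ((WT p n).map a).hom).map (ψ.hom PUnit.unit) ≫ hh D' a b h =
      hh D a b h ≫ (extendScalars ((WT p n).map b).hom).map (ψ.hom PUnit.unit) :=
  ψ.comm (CommRingCat.ofHom (algebraMap R A) ≫ a).op (i₁ := PUnit.unit) (i₂ := PUnit.unit) a.op b.op rfl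
    (by rw [← op_comp, ← h])

/-- The map of modules underlying a morphism of canonical data. -/
noncomputable def homCan {M N : ModuleCat.{u} ((WT p n).obj (CommRingCat.of R))}
    (ψ : can (A := A) M ⟶ can (A := A) N) :
    E ((WT p n).map (CommRingCat.ofHom (algebraMap R A))) M ⟶ E ((WT p n).map (CommRingCat.ofHom (algebraMap R A))) N :=
  ψ.hom PUnit.unit

theorem homCan_comm {M N : ModuleCat.{u} ((WT p n).obj (CommRingCat.of R))}
    (ψ : can (A := A) M ⟶ can (A := A) N) {T : CommRingCat.{u}}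
    (a b : CommRingCat.of A ⟶ T) (h : CommRingCat.ofHom (algebraMap R A) ≫ a = CommRingCat.ofHom (algebraMap R A) ≫ b) :
    (extendScalars ((WT p n).map a).hom).map (homCan ψ) ≫ hc N a b h =
      hc M a b h ≫ (extendScalars ((WT p n).map b).hom).map (homCan ψ) :=
  comm_hh (can (A := A) M) (can (A := A) N) ψ a b h

theorem exists_fixed_elem {N : ModuleCat.{u} ((WT p n).obj (CommRingCat.of R))} {ι : Type}
    [Fintype ι] (γ : DB ((WT p n).obj (CommRingCat.of R)) N ι)
    (H : E ((WT p n).map (a2 R A)) (E ((WT p n).map (CommRingCat.ofHom (algebraMap R A))) N) ⟶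
      E ((WT p n).map (b2 R A)) (E ((WT p n).map (CommRingCat.ofHom (algebraMap R A))) N))
    (hH : ∀ x : N, H (tm ((WT p n).map (a2 R A)) 1 (tm ((WT p n).map (CommRingCat.ofHom (algebraMap R A))) 1 x)) =
      tm ((WT p n).map (b2 R A)) 1 (tm ((WT p n).map (CommRingCat.ofHom (algebraMap R A))) 1 x))
    (z : E ((WT p n).map (CommRingCat.ofHom (algebraMap R A))) N)
    (h2 : H (tm ((WT p n).map (a2 R A)) 1 z) = tm ((WT p n).map (b2 R A)) 1 z) :
    ∃ y : N, z = tm ((WT p n).map (CommRingCat.ofHom (algebraMap R A))) 1 y := by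
  let fφ := (WT p n).map (CommRingCat.ofHom (algebraMap R A))
  set c := cf γ fφ z with hcdef
  have hz : z = ∑ k, c k • tm fφ 1 (γ.e k) := (expand_cf γ fφ z).symm
  rw [hz, tm_one_sum, tm_one_sum, map_sum] at h2
  have h2' : ∑ k, ((WT p n).map (a2 R A)).hom (c k) •
        tm ((WT p n).map (b2 R A)) 1 ((γ.base fφ).e k) =
      ∑ k, ((WT p n).map (b2 R A)).hom (c k) • tm ((WT p n).map (b2 R A)) 1 ((γ.base fφ).e k) := by
    refine Eq.trans (Finset.sum_congr rfl fun k _ => ?_) h2
    rw [map_smul]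
    exact congrArg (((WT p n).map (a2 R A)).hom (c k) • ·)
      (hH (γ.e k)).symm
  have h3 := congrArg (cf (γ.base fφ) ((WT p n).map (b2 R A))) h2'
  rw [cf_sum, cf_sum] at h3
  have hfix : ∀ a : CommRingCat.of A ⟶ T2 R A,
      (γ.base fφ).P.map ((WT p n).map a).hom *ᵥ (fun k => ((WT p n).map a).hom (c k)) =
        fun k => ((WT p n).map a).hom (c k) := fun a => by
    funext i
    have h4 := congrArg ((WT p n).map a).hom (congrFun (cf_fixed γ fφ z) i)
    refine Eq.trans ?_ h4
    simp [Matrix.mulVec, dotProduct, map_sum, DB.base_P, hcdef]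
  have hPab : (γ.base fφ).P.map ((WT p n).map (a2 R A)).hom =
      (γ.base fφ).P.map ((WT p n).map (b2 R A)).hom := by
    ext i k
    simp only [DB.base_P, Matrix.map_apply]
    rw [← RingHom.comp_apply, ← RingHom.comp_apply, ← CommRingCat.hom_comp,
      ← CommRingCat.hom_comp, ← Functor.map_comp, ← Functor.map_comp, w2]
  rw [hfix (b2 R A), ← hPab, hfix (a2 R A)] at h3
  choose r hr using fun k => exists_descend (c k) (congrFun h3 k)
  refine ⟨∑ k, r k • γ.e k, ?_⟩
  rw [hz, tm_one_sum]
  exact Finset.sum_congr rfl fun k _ => by rw [hr]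

theorem exists_preimage (M N : ModuleCat.{u} ((WT p n).obj (CommRingCat.of R))) {ι : Type}
    [Fintype ι] (γ : DB ((WT p n).obj (CommRingCat.of R)) N ι)
    (ψ' : E ((WT p n).map (CommRingCat.ofHom (algebraMap R A))) M ⟶ E ((WT p n).map (CommRingCat.ofHom (algebraMap R A))) N)
    (hcomm : (extendScalars ((WT p n).map (a2 R A)).hom).map ψ' ≫ hc N (a2 R A) (b2 R A) w2 =
      hc M (a2 R A) (b2 R A) w2 ≫ (extendScalars ((WT p n).map (b2 R A)).hom).map ψ') (x : M) :
    ∃ y : N, ψ' (tm ((WT p n).map (CommRingCat.ofHom (algebraMap R A))) 1 x) = tm ((WT p n).map (CommRingCat.ofHom (algebraMap R A))) 1 y := by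
  refine exists_fixed_elem γ (hc N (a2 R A) (b2 R A) w2)
    (fun y => hc_one N (a2 R A) (b2 R A) w2 y) _ ?_
  have h1 := apply_eq_of_comp_eq hcomm
    (tm ((WT p n).map (a2 R A)) 1 (tm ((WT p n).map (CommRingCat.ofHom (algebraMap R A))) 1 x))
  rw [map_tm, hc_one, map_tm] at h1
  exact h1

theorem fullyFaithful (M N : ModuleCat.{u} ((WT p n).obj (CommRingCat.of R)))
    [Module.Finite ((WT p n).obj (CommRingCat.of R)) N]
    [Module.Projective ((WT p n).obj (CommRingCat.of R)) N] :
    Function.Bijective (fun g : M ⟶ N =>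
      ((W4c3truncdispsmooth.wittModPF.{u} p n).toDescentData (fun _ : PUnit.{u + 1} => (CommRingCat.ofHom (algebraMap R A)).op)).map g) := by
  obtain ⟨k, ⟨γ⟩⟩ := exists_DB _ N
  refine ⟨fun g g' h => ?_, fun ψ => ?_⟩
  · refine ModuleCat.hom_ext (LinearMap.ext fun x => tm_one_injective (A := A) γ ?_)
    have e : (extendScalars ((WT p n).map (CommRingCat.ofHom (algebraMap R A))).hom).map g =
        (extendScalars ((WT p n).map (CommRingCat.ofHom (algebraMap R A))).hom).map g' := congrArg (fun k => k.hom PUnit.unit) h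
    exact congr($e (tm ((WT p n).map (CommRingCat.ofHom (algebraMap R A))) 1 x))
  · let fφ := (WT p n).map (CommRingCat.ofHom (algebraMap R A))
    let ψ' : E fφ M ⟶ E fφ N := homCan ψ
    choose f hf using exists_preimage M N γ (homCan ψ) (homCan_comm ψ (a2 R A) (b2 R A) w2)
    have hf' : ∀ x, ψ' (tm fφ 1 x) = tm fφ 1 (f x) := hf
    let g : M ⟶ N := ModuleCat.ofHom
      { toFun := f
        map_add' := fun a b => tm_one_injective (A := A) γ (by
          show tm fφ 1 (f (a + b)) = tm fφ 1 (f a + f b)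
          rw [← hf', Groth.Agent.Lib.DescAlg.RingDescent.tm_add,
            Groth.Agent.Lib.DescAlg.RingDescent.tm_add, map_add, hf', hf'])
        map_smul' := fun r a => tm_one_injective (A := A) γ (by
          show tm fφ 1 (f (r • a)) = tm fφ 1 (r • f a)
          rw [← hf', Groth.Agent.Lib.DescAlg.RingDescent.tm_smul,
            Groth.Agent.Lib.DescAlg.RingDescent.tm_smul, tm_eq_smul, map_smul, hf',
            tm_eq_smul fφ (_ * 1) (f a)]) }
    refine ⟨g, Pseudofunctor.DescentData.hom_ext fun _ => ?_⟩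
    show (extendScalars fφ.hom).map g = ψ'
    exact hom_ext' fφ fun x => (hf' x).symm

end Groth.Agent.Lib.WittDesc.Descent
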