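import Groth.Prelude.Def_WittGrp
import Mathlib.RingTheory.WittVector.Domain
import Mathlib.LinearAlgebra.Matrix.NonsingularInverse
import Groth.Agent.Lib.Disp.Witt

/-!
The filtration of a truncated Witt ring by initial vanishing of components, and its graded pieces.
-/

universe u v

set_option linter.unusedSectionVars false

namespace Groth.Agent.Lib.WittDesc.Filt

variable {p : ℕ} [hp : Fact p.Prime] {n : ℕ} {R : Type u} [CommRing R] {S : Type u} [CommRing S]

local notation "Wn" => TruncatedWittVector p n

/-- The `i`-th component, zero for `n ≤ i`. -/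
noncomputable def co (i : ℕ) (x : Wn R) : R := (TruncatedWittVector.out x).coeff i

theorem co_of_lt {i : ℕ} (hi : i < n) (x : Wn R) : co i x = x.coeff ⟨i, hi⟩ :=
  TruncatedWittVector.coeff_out x ⟨i, hi⟩

theorem co_truncate {i : ℕ} (hi : i < n) (X : WittVector p R) :
    co i (WittVector.truncate n X) = X.coeff i := by
  rw [co_of_lt hi, WittVector.coeff_truncate]

theorem co_map {i : ℕ} (hi : i < n) (f : R →+* S) (x : Wn R) :
    co i (WittGrp.truncMap p n f x) = f (co i x) := by
  rw [co_of_lt hi, co_of_lt hi, WittGrp.coeff_truncMap]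

theorem ext_co {x y : Wn R} (h : ∀ i < n, co i x = co i y) : x = y :=
  TruncatedWittVector.ext fun i => by simpa [co_of_lt i.2] using h i i.2

theorem truncate_out (x : Wn R) : WittVector.truncate n (TruncatedWittVector.out x) = x :=
  TruncatedWittVector.truncateFun_out x

/-- `x` has its components of index `< i` zero. -/
def InK (i : ℕ) (x : Wn R) : Prop := ∀ j, j < i → j < n → co j x = 0

theorem inK_zero (x : Wn R) : InK 0 x := fun _ h => absurd h (Nat.not_lt_zero _)

theorem eq_zero_of_inK {i : ℕ} (hi : n ≤ i) {x : Wn R} (h : InK i x) : x = 0 :=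
  ext_co fun j hj => by rw [h j (hj.trans_le hi) hj, co_of_lt hj, TruncatedWittVector.coeff_zero]

theorem InK.map {i : ℕ} {x : Wn R} (h : InK i x) (f : R →+* S) :
    InK i (WittGrp.truncMap p n f x) := fun j hji hjn => by
  rw [co_map hjn, h j hji hjn, map_zero]

theorem inK_succ {i : ℕ} {x : Wn R} (h : InK i x) (hx : ∀ hi : i < n, co i x = 0) : InK (i + 1) x :=
  fun j hj hjn => (Nat.lt_succ_iff_lt_or_eq.1 hj).elim (fun hj => h j hj hjn)
    fun e => by subst e; exact hx hjn

/-- An element of the `i`-th step comes from an iterated Verschiebung. -/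
theorem exists_eq_truncate {i : ℕ} (hi : i ≤ n) {x : Wn R} (h : InK i x) :
    ∃ X : WittVector p R, x = WittVector.truncate n (WittVector.verschiebung^[i] X) := by
  refine ⟨(TruncatedWittVector.out x).shift i, ?_⟩
  rw [← WittVector.eq_iterate_verschiebung fun j hj => h j hj (hj.trans_le hi), truncate_out]

theorem coeff_iterate (i : ℕ) (X : WittVector p R) :
    (WittVector.verschiebung^[i] X).coeff i = X.coeff 0 := by
  simpa using WittVector.iterate_verschiebung_coeff X i 0

theorem inK_truncate_iterate (i : ℕ) (X : WittVector p R) :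
    InK i (WittVector.truncate (p := p) n (WittVector.verschiebung^[i] X)) := fun j hj hjn => by
  rw [co_truncate hjn, WittVector.iterate_verschiebung_coeff_eq_zero X hj]

/-- The `i`-th ghost component. -/
noncomputable def gh (i : ℕ) (hi : i < n) : Wn R →+* R :=
  RingHom.liftOfSurjective (WittVector.truncate n) (WittVector.truncate_surjective p n R)
    ⟨WittVector.ghostComponent i, fun x hx => by
      rw [RingHom.mem_ker, WittVector.ghostComponent_apply, wittPolynomial_eq_sum_C_mul_X_pow,
        map_sum]
      refine Finset.sum_eq_zero fun j hj => ?_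
      have h0 : x.coeff j = 0 :=
        (WittVector.mem_ker_truncate (p := p) n x).1 hx j ((Finset.mem_range_succ_iff.1 hj).trans_lt hi)
      simp [h0, hp.out.ne_zero]⟩

theorem gh_truncate (i : ℕ) (hi : i < n) (X : WittVector p R) :
    gh i hi (WittVector.truncate n X) = WittVector.ghostComponent i X :=
  RingHom.liftOfRightInverse_comp_apply _ _ _ _ X

theorem gh_zero (h0 : 0 < n) (x : Wn R) : gh 0 h0 x = co 0 x := by
  rw [← truncate_out x, gh_truncate, WittVector.ghostComponent_apply, co_truncate h0]
  simp [wittPolynomial_zero]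

theorem gh_map (i : ℕ) (hi : i < n) (f : R →+* S) (x : Wn R) :
    gh i hi (WittGrp.truncMap p n f x) = f (gh i hi x) := by
  rw [← truncate_out x, WittGrp.truncMap_truncate, gh_truncate, gh_truncate,
    WittVector.ghostComponent_apply, WittVector.ghostComponent_apply,
    wittPolynomial_eq_sum_C_mul_X_pow, map_sum, map_sum, map_sum]
  refine Finset.sum_congr rfl fun j _ => ?_
  simp [WittVector.map_coeff]

theorem ghostComponent_zero (X : WittVector p R) : WittVector.ghostComponent 0 X = X.coeff 0 := by
  rw [WittVector.ghostComponent_apply]; simp [wittPolynomial_zero]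

theorem ghostComponent_iterate (i : ℕ) (X : WittVector p R) :
    (WittVector.frobenius^[i] X).coeff 0 = WittVector.ghostComponent i X := by
  rw [← ghostComponent_zero]
  suffices ∀ k, WittVector.ghostComponent k (WittVector.frobenius^[i] X) =
      WittVector.ghostComponent (k + i) X by simpa using this 0
  induction i with
  | zero => intro k; rfl
  | succ i ih =>
    intro k
    rw [Function.iterate_succ_apply', WittVector.ghostComponent_frobenius, ih]
    congr 2; omega

theorem InK.add {i : ℕ} (hi : i < n) {x y : Wn R} (hx : InK i x) (hy : InK i y) :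
    InK i (x + y) ∧ co i (x + y) = co i x + co i y := by
  obtain ⟨X, rfl⟩ := exists_eq_truncate hi.le hx
  obtain ⟨Y, rfl⟩ := exists_eq_truncate hi.le hy
  rw [← map_add, ← iterate_map_add]
  refine ⟨inK_truncate_iterate i _, ?_⟩
  rw [co_truncate hi, co_truncate hi, co_truncate hi, coeff_iterate, coeff_iterate, coeff_iterate,
    WittVector.add_coeff_zero]

theorem InK.mul {i : ℕ} (hi : i < n) (a : Wn R) {x : Wn R} (hx : InK i x) :
    InK i (a * x) ∧ co i (a * x) = gh i hi a * co i x := by
  obtain ⟨X, rfl⟩ := exists_eq_truncate hi.le hx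
  rw [← truncate_out a, ← map_mul, mul_comm, WittVector.iterate_verschiebung_mul_left]
  refine ⟨inK_truncate_iterate i _, ?_⟩
  rw [co_truncate hi, co_truncate hi, coeff_iterate, coeff_iterate, WittVector.mul_coeff_zero,
    ghostComponent_iterate, gh_truncate, mul_comm]

theorem exists_inK_co {i : ℕ} (hi : i < n) (r : R) : ∃ x : Wn R, InK i x ∧ co i x = r :=
  ⟨WittVector.truncate n (WittVector.verschiebung^[i] (WittVector.teichmuller p r)),
    inK_truncate_iterate i _, by
      rw [co_truncate hi, coeff_iterate, WittVector.teichmuller_coeff_zero]⟩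

theorem inK_zero_elem {i : ℕ} (hi : i < n) : InK i (0 : Wn R) ∧ co i (0 : Wn R) = 0 :=
  ⟨fun j _ hj => by rw [co_of_lt hj, TruncatedWittVector.coeff_zero],
    by rw [co_of_lt hi, TruncatedWittVector.coeff_zero]⟩

theorem InK.sum {i : ℕ} (hi : i < n) {ι : Type*} (s : Finset ι) {x : ι → Wn R}
    (hx : ∀ k ∈ s, InK i (x k)) :
    InK i (∑ k ∈ s, x k) ∧ co i (∑ k ∈ s, x k) = ∑ k ∈ s, co i (x k) := by
  classical
  induction s using Finset.induction_on with
  | empty => simpa using inK_zero_elem hi
  | insert k s hk ih =>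
    obtain ⟨h1, h2⟩ := ih fun j hj => hx j (Finset.mem_insert_of_mem hj)
    obtain ⟨h3, h4⟩ := InK.add hi (hx k (Finset.mem_insert_self k s)) h1
    rw [Finset.sum_insert hk, Finset.sum_insert hk]
    exact ⟨h3, by rw [h4, h2]⟩

theorem InK.sub {i : ℕ} (hi : i < n) {x y : Wn R} (hx : InK i x) (hy : InK i y) :
    InK i (x - y) ∧ co i (x - y) = co i x - co i y := by
  obtain ⟨h1, h2⟩ := InK.mul hi (-1) hy
  obtain ⟨h3, h4⟩ := InK.add hi hx h1
  rw [show x - y = x + -1 * y by ring]
  exact ⟨h3, by rw [h4, h2, map_neg, map_one]; ring⟩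

/-- A truncated Witt vector with zeroth component `1` is a unit when `p` is nilpotent. -/
theorem isUnit_of_co_zero (hpR : IsNilpotent (p : R)) {x : Wn R} (h : 0 < n → co 0 x = 1) :
    IsUnit x := by
  rcases Nat.eq_zero_or_pos n with rfl | hn
  · exact ⟨⟨x, 1, ext_co fun i hi => absurd hi (Nat.not_lt_zero i),
      ext_co fun i hi => absurd hi (Nat.not_lt_zero i)⟩, rfl⟩
  · obtain ⟨X, rfl⟩ := WittVector.truncate_surjective p n R x
    have h0 : X.coeff 0 = 1 := by rw [← co_truncate hn]; exact h hn
    have h1 := Disp.Witt.eq_teich_add X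
    rw [h0, map_one, ← neg_neg (Disp.Witt.shift X), map_neg, ← sub_eq_add_neg] at h1
    rw [h1]
    exact (Disp.Witt.isUnit_one_sub_verschiebung hpR _).map _

end Groth.Agent.Lib.WittDesc.Filt
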