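import Groth.Prelude.Def_W4c3truncdispsmoothDesc
import Groth.Agent.Lib.DescAlg.RingDescent.Elements

/-!
The coherence isomorphisms of the pseudofunctor of modules over truncated Witt rings, on elements.
-/

set_option backward.isDefEq.respectTransparency false
set_option backward.isDefEq.respectTransparency.types false

universe u
open CategoryTheory ModuleCat Opposite Pseudofunctor.LocallyDiscreteOpToCat
open scoped ChangeOfRings
open Groth.Agent.Lib.DescAlg.RingDescent (E tm)

namespace Groth.Agent.Lib.WittDesc.Pseudo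

/-- Extension of scalars as a pseudofunctor. -/
noncomputable abbrev EF := CommRingCat.moduleCatExtendScalarsPseudofunctor.{u}

theorem map₂_one {A B : CommRingCat.{u}} {f f' : A ⟶ B} (η : f.toLoc ⟶ f'.toLoc)
    (M : ModuleCat.{u} A) (m : M) :
    (show E f M ⟶ E f' M from (EF.map₂ η).toNatTrans.app M) (tm f 1 m) = tm f' 1 m := by
  obtain rfl : f = f' := congrArg (fun k => k.as) (LocallyDiscrete.eq_of_hom η)
  rw [show η = 𝟙 _ from Subsingleton.elim _ _, EF.map₂_id]
  rfl

variable {C : Type (u + 1)} [Category.{u} C] (W : C ⥤ CommRingCat.{u})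

/-- Modules over the values of `W`. -/
noncomputable abbrev PW : Pseudofunctor (LocallyDiscrete C) Cat.{u, u + 1} :=
  W.toPseudofunctor.comp CommRingCat.moduleCatExtendScalarsPseudofunctor.{u}

theorem mapComp_one {R S T : C} (a : R ⟶ S) (g : S ⟶ T) (M : ModuleCat.{u} (W.obj R)) (m : M) :
    (show E (W.map (a ≫ g)) M ⟶ E (W.map g) (E (W.map a) M) from
      ((PW W).mapComp a.toLoc g.toLoc).hom.toNatTrans.app M) (tm (W.map (a ≫ g)) 1 m) =
      tm (W.map g) 1 (tm (W.map a) 1 m) := by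
  show (show E (W.map a ≫ W.map g) M ⟶ E (W.map g) (E (W.map a) M) from
      (EF.mapComp (W.map a).toLoc (W.map g).toLoc).hom.toNatTrans.app M)
    ((show E (W.map (a ≫ g)) M ⟶ E (W.map a ≫ W.map g) M from
      (EF.map₂ (W.toPseudofunctor.mapComp a.toLoc g.toLoc).hom).toNatTrans.app M)
      (tm (W.map (a ≫ g)) 1 m)) = _
  erw [map₂_one (f := W.map (a ≫ g)) (f' := W.map a ≫ W.map g)]
  exact ModuleCat.extendScalarsComp_hom_app_one_tmul (W.map a).hom (W.map g).hom M m

variable (p : ℕ) [Fact p.Prime] (n : ℕ)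

/-- The truncated Witt functor. -/
noncomputable abbrev WT : CommRingCat.{u} ⥤ CommRingCat.{u} := W4c3truncdispsmooth.wittTrunc.{u} p n

/-- The pseudofunctor of modules over truncated Witt rings. -/
noncomputable abbrev PF : Pseudofunctor (LocallyDiscrete (CommRingCat.{u}ᵒᵖ)ᵒᵖ) Cat.{u, u + 1} :=
  W4c3truncdispsmooth.wittModPF.{u} p n

/-- The composition isomorphism. -/
noncomputable def mcIso {R S T : CommRingCat.{u}} (a : R ⟶ S) (g : S ⟶ T) (c : R ⟶ T)
    (h : a ≫ g = c) (M : ModuleCat.{u} ((WT p n).obj R)) :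
    E ((WT p n).map c) M ≅ E ((WT p n).map g) (E ((WT p n).map a) M) :=
  (Cat.Hom.toNatIso ((PF p n).mapComp' a.op.op.toLoc g.op.op.toLoc c.op.op.toLoc
    (by subst h; rfl))).app M

theorem mcIso_hom_one {R S T : CommRingCat.{u}} (a : R ⟶ S) (g : S ⟶ T) (c : R ⟶ T)
    (h : a ≫ g = c) (M : ModuleCat.{u} ((WT p n).obj R)) (m : M) :
    (mcIso p n a g c h M).hom (tm ((WT p n).map c) 1 m) =
      tm ((WT p n).map g) 1 (tm ((WT p n).map a) 1 m) := by
  subst h
  let P := W4c3truncdispsmooth.wittModPF.{u} p n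
  have key : (mcIso p n a g (a ≫ g) rfl M).hom =
      (P.mapComp a.op.op.toLoc g.op.op.toLoc).hom.toNatTrans.app M :=
    congrArg (fun i : P.map (a.op.op.toLoc ≫ g.op.op.toLoc) ≅
        P.map a.op.op.toLoc ≫ P.map g.op.op.toLoc => i.hom.toNatTrans.app M)
      (Pseudofunctor.mapComp'_eq_mapComp P a.op.op.toLoc g.op.op.toLoc)
  rw [key]
  exact mapComp_one ((unopUnop CommRingCat.{u}) ⋙ WT p n) a.op.op g.op.op M m

theorem mcIso_inv_one {R S T : CommRingCat.{u}} (a : R ⟶ S) (g : S ⟶ T) (c : R ⟶ T)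
    (h : a ≫ g = c) (M : ModuleCat.{u} ((WT p n).obj R)) (m : M) :
    (mcIso p n a g c h M).inv (tm ((WT p n).map g) 1 (tm ((WT p n).map a) 1 m)) =
      tm ((WT p n).map c) 1 m := by
  have h1 : ∀ {X Y : ModuleCat.{u} ((WT p n).obj T)} (i : X ≅ Y) (x : X) (y : Y),
      i.hom x = y → i.inv y = x := fun i x y hxy => by rw [← hxy, Iso.hom_inv_id_apply]
  exact h1 _ _ _ (mcIso_hom_one p n a g c h M m)

end Groth.Agent.Lib.WittDesc.Pseudo
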