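import Groth.Agent.Lib.WittDesc.Pseudo
import Groth.Agent.Lib.WittDesc.Coord
import Groth.Agent.Lib.WittDesc.Core

/-!
Descent data of modules over truncated Witt rings in matrix form.
-/

set_option backward.isDefEq.respectTransparency false
set_option backward.isDefEq.respectTransparency.types false

universe u
open CategoryTheory ModuleCat Opposite Matrix
open scoped ChangeOfRings TensorProduct
open Groth.Agent.Lib.DescAlg.RingDescent (E tm hom_ext' tm_smul tm_eq_smul smul_tm liftE)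
open Groth.Agent.Lib.WittDesc.Pseudo Groth.Agent.Lib.WittDesc.Coord

namespace Groth.Agent.Lib.WittDesc.Translate

variable {p : ℕ} [Fact p.Prime] {n : ℕ} {R A : Type u} [CommRing R] [CommRing A] [Algebra R A]

variable (p n R A) in
/-- Descent data of modules over truncated Witt rings. -/
abbrev DD := (W4c3truncdispsmooth.wittModPF.{u} p n).DescentData (fun _ : PUnit.{u + 1} => (CommRingCat.ofHom (algebraMap R A)).op)

variable (D : DD p n R A) {T : CommRingCat.{u}}

/-- The underlying module. -/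
noncomputable abbrev dobj : ModuleCat.{u} ((WT p n).obj (CommRingCat.of A)) := D.obj PUnit.unit

/-- The gluing morphism at a pair of points. -/
noncomputable def hh (a b : CommRingCat.of A ⟶ T) (h : CommRingCat.ofHom (algebraMap R A) ≫ a = CommRingCat.ofHom (algebraMap R A) ≫ b) :
    E ((WT p n).map a) (dobj D) ⟶ E ((WT p n).map b) (dobj D) :=
  D.hom (i₁ := PUnit.unit) (i₂ := PUnit.unit) (CommRingCat.ofHom (algebraMap R A) ≫ a).op a.op b.op rfl
    (by rw [← op_comp, ← h])

theorem hh_self (a : CommRingCat.of A ⟶ T) : hh D a a rfl = 𝟙 _ := D.hom_self _ _ rfl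

theorem hh_comp (a b c : CommRingCat.of A ⟶ T) (h : CommRingCat.ofHom (algebraMap R A) ≫ a = CommRingCat.ofHom (algebraMap R A) ≫ b)
    (h' : CommRingCat.ofHom (algebraMap R A) ≫ b = CommRingCat.ofHom (algebraMap R A) ≫ c) :
    hh D a b h ≫ hh D b c h' = hh D a c (h.trans h') := by
  have e : hh D b c h' = D.hom (i₁ := PUnit.unit) (i₂ := PUnit.unit) (CommRingCat.ofHom (algebraMap R A) ≫ a).op b.op c.op
      (by rw [← op_comp, ← h]) (by rw [← op_comp, ← h', ← h]) := by
    unfold hh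
    congr 1
    rw [h]
  rw [e]
  exact D.hom_comp _ _ _ _ _ _ _

theorem hh_comp_g {T' : CommRingCat.{u}} (a b : CommRingCat.of A ⟶ T)
    (h : CommRingCat.ofHom (algebraMap R A) ≫ a = CommRingCat.ofHom (algebraMap R A) ≫ b) (g : T ⟶ T') :
    hh D (a ≫ g) (b ≫ g) (by rw [reassoc_of% h]) =
      (mcIso p n a g (a ≫ g) rfl (dobj D)).hom ≫ (extendScalars ((WT p n).map g).hom).map (hh D a b h) ≫
        (mcIso p n b g (b ≫ g) rfl (dobj D)).inv := by
  refine Eq.symm (D.pullHom_hom g.op (CommRingCat.ofHom (algebraMap R A) ≫ a).op (CommRingCat.ofHom (algebraMap R A) ≫ a ≫ g).op ?_ (i₁ := PUnit.unit)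
    (i₂ := PUnit.unit) a.op b.op rfl (by rw [← op_comp, ← h]) (a ≫ g).op (b ≫ g).op ?_ ?_)
  · rw [← op_comp, Category.assoc]
  · rw [← op_comp]
  · rw [← op_comp]

variable {m : Type} [Fintype m] (β : DB ((WT p n).obj (CommRingCat.of A)) (dobj D) m)

/-- The matrix of a gluing morphism. -/
noncomputable def Hm (a b : CommRingCat.of A ⟶ T) (h : CommRingCat.ofHom (algebraMap R A) ≫ a = CommRingCat.ofHom (algebraMap R A) ≫ b) :
    Matrix m m ((WT p n).obj T) :=
  mat β (hh D a b h)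

theorem Hm_comp (a b c : CommRingCat.of A ⟶ T) (h : CommRingCat.ofHom (algebraMap R A) ≫ a = CommRingCat.ofHom (algebraMap R A) ≫ b)
    (h' : CommRingCat.ofHom (algebraMap R A) ≫ b = CommRingCat.ofHom (algebraMap R A) ≫ c) :
    Hm D β b c h' * Hm D β a b h = Hm D β a c (h.trans h') := by
  rw [Hm, Hm, Hm, ← mat_comp, hh_comp]

theorem Hm_self (a : CommRingCat.of A ⟶ T) : Hm D β a a rfl = β.P.map ((WT p n).map a).hom := by
  rw [Hm, hh_self, mat_id]

theorem Hm_mul_left (a b : CommRingCat.of A ⟶ T) (h : CommRingCat.ofHom (algebraMap R A) ≫ a = CommRingCat.ofHom (algebraMap R A) ≫ b) :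
    β.P.map ((WT p n).map b).hom * Hm D β a b h = Hm D β a b h := by
  rw [← Hm_self D β b, Hm_comp]

theorem Hm_mul_right (a b : CommRingCat.of A ⟶ T) (h : CommRingCat.ofHom (algebraMap R A) ≫ a = CommRingCat.ofHom (algebraMap R A) ≫ b) :
    Hm D β a b h * β.P.map ((WT p n).map a).hom = Hm D β a b h := by
  rw [← Hm_self D β a, Hm_comp]

theorem Hm_natural {T' : CommRingCat.{u}} (a b : CommRingCat.of A ⟶ T)
    (h : CommRingCat.ofHom (algebraMap R A) ≫ a = CommRingCat.ofHom (algebraMap R A) ≫ b) (g : T ⟶ T') :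
    Hm D β (a ≫ g) (b ≫ g) (by rw [reassoc_of% h]) = (Hm D β a b h).map ((WT p n).map g).hom := by
  ext i l
  set c : m → (WT p n).obj T := fun j => Hm D β a b h j l with hc
  have h1 : hh D a b h (tm ((WT p n).map a) 1 (β.e l)) =
      ∑ j, c j • tm ((WT p n).map b) 1 (β.e j) := (expand_cf β _ _).symm
  have h2 : hh D (a ≫ g) (b ≫ g) (by rw [reassoc_of% h]) (tm ((WT p n).map (a ≫ g)) 1 (β.e l)) =
      ∑ j, ((WT p n).map g).hom (c j) • tm ((WT p n).map (b ≫ g)) 1 (β.e j) := by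
    rw [hh_comp_g D a b h g, ModuleCat.comp_apply, ModuleCat.comp_apply, mcIso_hom_one]
    have e : (extendScalars ((WT p n).map g).hom).map (hh D a b h)
        (tm ((WT p n).map g) 1 (tm ((WT p n).map a) 1 (β.e l))) =
        tm ((WT p n).map g) 1 (hh D a b h (tm ((WT p n).map a) 1 (β.e l))) := rfl
    rw [e, h1, tm_one_sum, map_sum]
    refine Finset.sum_congr rfl fun j _ => ?_
    rw [map_smul, mcIso_inv_one]
  show cf β _ (hh D (a ≫ g) (b ≫ g) _ (tm _ 1 (β.e l))) i = _
  rw [h2, cf_sum, Matrix.map_apply]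
  have h3 := congrArg ((WT p n).map g).hom (congrFun (congrFun (Hm_mul_left D β a b h) i) l)
  refine Eq.trans ?_ h3
  simp only [Matrix.mulVec, dotProduct, Matrix.mul_apply, map_sum, map_mul, Matrix.map_apply, hc]
  refine Finset.sum_congr rfl fun j _ => ?_
  rw [Functor.map_comp, CommRingCat.hom_comp, RingHom.comp_apply]

/-- `A ⊗ A`. -/
noncomputable abbrev T2 (R A : Type u) [CommRing R] [CommRing A] [Algebra R A] : CommRingCat.{u} :=
  CommRingCat.of (A ⊗[R] A)

/-- The first inclusion. -/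
noncomputable abbrev a2 (R A : Type u) [CommRing R] [CommRing A] [Algebra R A] :
    CommRingCat.of A ⟶ T2 R A :=
  CommRingCat.ofHom (Classical.ι₁ (R := R) (A := A)).toRingHom

/-- The second inclusion. -/
noncomputable abbrev b2 (R A : Type u) [CommRing R] [CommRing A] [Algebra R A] :
    CommRingCat.of A ⟶ T2 R A :=
  CommRingCat.ofHom (Classical.ι₂ (R := R) (A := A)).toRingHom

theorem w2 : CommRingCat.ofHom (algebraMap R A) ≫ a2 R A = CommRingCat.ofHom (algebraMap R A) ≫ b2 R A := by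
  ext r
  exact ((Classical.ι₁ (R := R) (A := A)).commutes r).trans
    ((Classical.ι₂ (R := R) (A := A)).commutes r).symm

theorem exists_lift (a b : CommRingCat.of A ⟶ T) (h : CommRingCat.ofHom (algebraMap R A) ≫ a = CommRingCat.ofHom (algebraMap R A) ≫ b) :
    ∃ g : T2 R A ⟶ T, a2 R A ≫ g = a ∧ b2 R A ≫ g = b := by
  letI : Algebra R T := (CommRingCat.ofHom (algebraMap R A) ≫ a).hom.toAlgebra
  let fa : A →ₐ[R] T := { a.hom with commutes' := fun r => rfl }
  let fb : A →ₐ[R] T := { b.hom with commutes' := fun r => (congr($(h).hom r)).symm }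
  refine ⟨CommRingCat.ofHom (Algebra.TensorProduct.productMap fa fb).toRingHom, ?_, ?_⟩
  · ext s
    show Algebra.TensorProduct.productMap fa fb (s ⊗ₜ 1) = _
    simp [fa]
  · ext s
    show Algebra.TensorProduct.productMap fa fb (1 ⊗ₜ s) = _
    simp [fb]

/-- The datum in matrix form. -/
noncomputable def toDatum : Core.Datum p n R A m where
  P := β.P
  H := Hm D β (a2 R A) (b2 R A) w2
  hP := β.P_mul
  hHa := Hm_mul_right D β (a2 R A) (b2 R A) w2
  hHb := Hm_mul_left D β (a2 R A) (b2 R A) w2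
  hdiag := by
    let μ : T2 R A ⟶ CommRingCat.of A :=
      CommRingCat.ofHom (Algebra.TensorProduct.lmul' R (S := A)).toRingHom
    have e1 : a2 R A ≫ μ = 𝟙 _ := by ext x; simp [μ]
    have e2 : b2 R A ≫ μ = 𝟙 _ := by ext x; simp [μ]
    have h := Hm_natural D β (a2 R A) (b2 R A) w2 μ
    have h' : Hm D β (a2 R A ≫ μ) (b2 R A ≫ μ) (by rw [reassoc_of% w2 (R := R) (A := A)]) =
        β.P.map ((WT p n).map (𝟙 (CommRingCat.of A))).hom := by
      have key : ∀ (a b : CommRingCat.of A ⟶ CommRingCat.of A) (hab), a = 𝟙 _ → b = 𝟙 _ →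
          Hm D β a b hab = β.P.map ((WT p n).map (𝟙 (CommRingCat.of A))).hom := by
        rintro a b hab rfl rfl; exact Hm_self D β _
      exact key _ _ _ e1 e2
    rw [h'] at h
    refine h.symm.trans ?_
    rw [CategoryTheory.Functor.map_id]
    simp
  hcoc := by
    let g12 : T2 R A ⟶ CommRingCat.of (A ⊗[R] (A ⊗[R] A)) :=
      CommRingCat.ofHom (Classical.ι₁₂ (R := R) (A := A)).toRingHom
    let g01 : T2 R A ⟶ CommRingCat.of (A ⊗[R] (A ⊗[R] A)) :=
      CommRingCat.ofHom (Classical.ι₀₁ (R := R) (A := A)).toRingHom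
    let g02 : T2 R A ⟶ CommRingCat.of (A ⊗[R] (A ⊗[R] A)) :=
      CommRingCat.ofHom (Classical.ι₀₂ (R := R) (A := A)).toRingHom
    have e1 : b2 R A ≫ g01 = a2 R A ≫ g12 := by ext x; simp [g01, g12]
    have e2 : a2 R A ≫ g01 = a2 R A ≫ g02 := by ext x; simp [g01, g02]
    have e3 : b2 R A ≫ g12 = b2 R A ≫ g02 := by ext x; simp [g12, g02]
    show (Hm D β (a2 R A) (b2 R A) w2).map ((WT p n).map g12).hom *
      (Hm D β (a2 R A) (b2 R A) w2).map ((WT p n).map g01).hom =
      (Hm D β (a2 R A) (b2 R A) w2).map ((WT p n).map g02).hom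
    rw [← Hm_natural, ← Hm_natural, ← Hm_natural]
    have key : ∀ (a b b' c a' c' : CommRingCat.of A ⟶ CommRingCat.of (A ⊗[R] (A ⊗[R] A)))
        (h : CommRingCat.ofHom (algebraMap R A) ≫ a = CommRingCat.ofHom (algebraMap R A) ≫ b) (h' : CommRingCat.ofHom (algebraMap R A) ≫ b' = CommRingCat.ofHom (algebraMap R A) ≫ c) (h'' : CommRingCat.ofHom (algebraMap R A) ≫ a' = CommRingCat.ofHom (algebraMap R A) ≫ c'),
        b = b' → a = a' → c = c' → Hm D β b' c h' * Hm D β a b h = Hm D β a' c' h'' := by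
      rintro a b b' c a' c' h h' h'' rfl rfl rfl; exact Hm_comp D β a b c h h'
    exact key _ _ _ _ _ _ _ _ _ e1 e2 e3

theorem Hm_mul_of_fixed {ι : Type} [Fintype ι] (U : Matrix m ι ((WT p n).obj (CommRingCat.of A)))
    (hU : Hm D β (a2 R A) (b2 R A) w2 * U.map ((WT p n).map (a2 R A)).hom = U.map ((WT p n).map (b2 R A)).hom)
    (a b : CommRingCat.of A ⟶ T) (h : CommRingCat.ofHom (algebraMap R A) ≫ a = CommRingCat.ofHom (algebraMap R A) ≫ b) :
    Hm D β a b h * U.map ((WT p n).map a).hom = U.map ((WT p n).map b).hom := by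
  obtain ⟨g, rfl, rfl⟩ := exists_lift a b h
  rw [Hm_natural D β (a2 R A) (b2 R A) w2 g, Functor.map_comp, Functor.map_comp]
  have h1 := congrArg (fun Y : Matrix m ι ((WT p n).obj (T2 R A)) => Y.map ((WT p n).map g).hom) hU
  simp only [Matrix.map_mul] at h1
  simp only [CommRingCat.hom_comp, RingHom.coe_comp, ← Matrix.map_map]
  exact h1

/-- The canonical datum. -/
noncomputable abbrev can (M : ModuleCat.{u} ((WT p n).obj (CommRingCat.of R))) : DD p n R A :=
  ((W4c3truncdispsmooth.wittModPF.{u} p n).toDescentData (fun _ : PUnit.{u + 1} => (CommRingCat.ofHom (algebraMap R A)).op)).obj M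

theorem toDescentData_hom {C : Type*} [Category C]
    (P : Pseudofunctor (LocallyDiscrete Cᵒᵖ) Cat.{u, u + 1}) {ι : Type*} {S : C} {X : ι → C}
    (f : ∀ i, X i ⟶ S) (M : P.obj (.mk (op S))) {Y : C} (q : Y ⟶ S) (i₁ i₂ : ι) (f₁ : Y ⟶ X i₁)
    (f₂ : Y ⟶ X i₂) (hf₁ : f₁ ≫ f i₁ = q) (hf₂ : f₂ ≫ f i₂ = q)
    (h₁ : (f i₁).op.toLoc ≫ f₁.op.toLoc = q.op.toLoc)
    (h₂ : (f i₂).op.toLoc ≫ f₂.op.toLoc = q.op.toLoc) :
    ((P.toDescentData f).obj M).hom q f₁ f₂ hf₁ hf₂ =
      ((Cat.Hom.toNatIso (P.mapComp' (f i₁).op.toLoc f₁.op.toLoc q.op.toLoc h₁)).app M).inv ≫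
        ((Cat.Hom.toNatIso (P.mapComp' (f i₂).op.toLoc f₂.op.toLoc q.op.toLoc h₂)).app M).hom :=
  rfl

theorem hh_can_eq (M : ModuleCat.{u} ((WT p n).obj (CommRingCat.of R)))
    (a b : CommRingCat.of A ⟶ T) (h : CommRingCat.ofHom (algebraMap R A) ≫ a = CommRingCat.ofHom (algebraMap R A) ≫ b) :
    hh (can (A := A) M) a b h = (mcIso p n (CommRingCat.ofHom (algebraMap R A)) a (CommRingCat.ofHom (algebraMap R A) ≫ a) rfl M).inv ≫
      (mcIso p n (CommRingCat.ofHom (algebraMap R A)) b (CommRingCat.ofHom (algebraMap R A) ≫ a) h.symm M).hom := by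
  delta hh mcIso can
  exact toDescentData_hom (W4c3truncdispsmooth.wittModPF.{u} p n) (fun _ : PUnit.{u + 1} => (CommRingCat.ofHom (algebraMap R A)).op) M (CommRingCat.ofHom (algebraMap R A) ≫ a).op
    PUnit.unit PUnit.unit a.op b.op rfl _ _ _

/-- The gluing morphism of the canonical datum. -/
noncomputable def hc (M : ModuleCat.{u} ((WT p n).obj (CommRingCat.of R)))
    (a b : CommRingCat.of A ⟶ T) (h : CommRingCat.ofHom (algebraMap R A) ≫ a = CommRingCat.ofHom (algebraMap R A) ≫ b) :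
    E ((WT p n).map a) (E ((WT p n).map (CommRingCat.ofHom (algebraMap R A))) M) ⟶
      E ((WT p n).map b) (E ((WT p n).map (CommRingCat.ofHom (algebraMap R A))) M) :=
  hh (can (A := A) M) a b h

theorem hc_eq (M : ModuleCat.{u} ((WT p n).obj (CommRingCat.of R)))
    (a b : CommRingCat.of A ⟶ T) (h : CommRingCat.ofHom (algebraMap R A) ≫ a = CommRingCat.ofHom (algebraMap R A) ≫ b) :
    hc (A := A) M a b h = (mcIso p n (CommRingCat.ofHom (algebraMap R A)) a (CommRingCat.ofHom (algebraMap R A) ≫ a) rfl M).inv ≫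
      (mcIso p n (CommRingCat.ofHom (algebraMap R A)) b (CommRingCat.ofHom (algebraMap R A) ≫ a) h.symm M).hom :=
  hh_can_eq M a b h

theorem hc_one (M : ModuleCat.{u} ((WT p n).obj (CommRingCat.of R))) (a b : CommRingCat.of A ⟶ T)
    (h : CommRingCat.ofHom (algebraMap R A) ≫ a = CommRingCat.ofHom (algebraMap R A) ≫ b) (x : M) :
    hc (A := A) M a b h (tm ((WT p n).map a) 1 (tm ((WT p n).map (CommRingCat.ofHom (algebraMap R A))) 1 x)) =
      tm ((WT p n).map b) 1 (tm ((WT p n).map (CommRingCat.ofHom (algebraMap R A))) 1 x) := by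
  rw [hc_eq, ModuleCat.comp_apply, mcIso_inv_one, mcIso_hom_one]

end Groth.Agent.Lib.WittDesc.Translate
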